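import Cfsg.Agent.Lib.U62Sub.Twist

/-!
# A triple cover of `PSU(4, 3)` contains the even monomial elements up to conjugacy

Lifting the diagonal subgroup of the model gives an elementary subgroup of order `243`: commutators of
lifts are central of order three and symmetric under even permutations. Conjugated onto the diagonal
subgroup, its normaliser gives all even permutations.
-/

set_option autoImplicit false

namespace Cfsg.Agent.U62Sub

open Cfsg Matrix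

variable {F : Type*} [Field F]

theorem third : ∀ i j : Fin 6, i ≠ j → i ≠ 5 → j ≠ 5 → ∃ k l m : Fin 6,
    [i, j, 5, k, l, m].Nodup ∧ ∀ r : Fin 6, r ∈ [i, j, 5, k, l, m] := by
  decide +kernel

theorem double_swap : ∀ i k j l : Fin 6, i ≠ k → j ≠ l →
    Equiv.swap i k * Equiv.swap j l ∈ alternatingGroup (Fin 6) := by
  intro i k j l hik hjl
  rw [Equiv.Perm.mem_alternatingGroup, map_mul, Equiv.Perm.sign_swap hik, Equiv.Perm.sign_swap hjl]
  decide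

theorem act_mul (g h : ↥(Cfsg.SU 6 F 2)) (v : Fin 6 → F) : (g * h) • v = g • h • v := mul_smul g h v

theorem comm_shift {G : Type*} [Group G] {a b z w : G} (hz : ∀ g, g * z = z * g) (hw : ∀ g, g * w = w * g) :
    (a * z) * (b * w) * (a * z)⁻¹ * (b * w)⁻¹ = a * b * a⁻¹ * b⁻¹ := by
  rw [_root_.mul_inv_rev, _root_.mul_inv_rev, mul_assoc a z, ← hz (b * w)]
  simp only [mul_assoc, mul_inv_cancel_left]
  rw [← mul_assoc w a⁻¹, ← hw a⁻¹, mul_assoc, mul_inv_cancel_left]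

namespace GF4

variable (Φ : GF4 F)

/-- The coefficients `a` at `i` and `a²` at `j`. -/
def dA (a : F) (i j r : Fin 6) : F := (if r = i then a else 1) * (if r = j then a ^ 2 else 1)

theorem dA_ne {a : F} (ha : a ≠ 0) (i j r : Fin 6) : dA a i j r ≠ 0 := by
  unfold dA
  exact mul_ne_zero (by split_ifs <;> simp [ha]) (by split_ifs <;> simp [ha])

include Φ in
theorem prod_dA {a : F} (ha : a ≠ 0) (i j : Fin 6) : ∏ r, dA a i j r = 1 := by
  unfold dA
  rw [Finset.prod_mul_distrib, Finset.prod_ite_eq', Finset.prod_ite_eq', if_pos (Finset.mem_univ _),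
    if_pos (Finset.mem_univ _), ← pow_succ', Φ.cube ha]

/-- A basic diagonal element. -/
def tA {a : F} (ha : a ≠ 0) (i j : Fin 6) : ↥(Cfsg.SU 6 F 2) :=
  Φ.mono 1 (dA a i j) (dA_ne ha i j) (Φ.prod_dA ha i j)

theorem tA_single {a : F} (ha : a ≠ 0) (i j r : Fin 6) :
    Φ.tA ha i j • (Pi.single r 1 : Fin 6 → F) = dA a i j r • Pi.single r 1 :=
  Φ.mono_single 1 _ _ _ r

/-- The element with coefficients `w` and `w²`. -/
def tt (i j : Fin 6) : ↥(Cfsg.SU 6 F 2) := Φ.tA Φ.w_ne_zero i j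

theorem tt_single (i j r : Fin 6) :
    Φ.tt i j • (Pi.single r 1 : Fin 6 → F) = dA Φ.w i j r • Pi.single r 1 :=
  Φ.tA_single _ i j r

theorem tt_mem (i j : Fin 6) : Φ.tt i j ∈ Diag := fun r => ⟨_, Φ.tt_single i j r⟩

theorem tA_mul {a b : F} (ha : a ≠ 0) (hb : b ≠ 0) (i j : Fin 6) :
    Φ.tA ha i j * Φ.tA hb i j = Φ.tA (mul_ne_zero ha hb) i j := act_ext fun r => by
  rw [mul_smul, tA_single, act_smul, tA_single, tA_single, smul_smul]
  congr 1
  unfold dA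
  split_ifs <;> ring

theorem diag_le_of_tt {H : Subgroup ↥(Cfsg.SU 6 F 2)} (h : ∀ i : Fin 6, i ≠ 5 → Φ.tt i 5 ∈ H) : Diag ≤ H := by
  intro g hg
  have hall : ∀ {a : F} (ha : a ≠ 0) (i : Fin 6), i ≠ 5 → Φ.tA ha i 5 ∈ H := by
    intro a ha i hi
    rcases Φ.surj a with rfl | rfl | rfl | rfl
    · exact absurd rfl ha
    · have : Φ.tA ha i 5 = 1 := act_ext fun r => by simp [tA_single, dA]
      rw [this]; exact one_mem _
    · exact h i hi
    · have := mul_mem (h i hi) (h i hi)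
      rw [tt, tA_mul] at this
      have e : Φ.tA ha i 5 = Φ.tA (mul_ne_zero Φ.w_ne_zero Φ.w_ne_zero) i 5 := act_ext fun r => by
        rw [tA_single, tA_single]; congr 1; unfold dA; rw [sq]
      exact e ▸ this
  obtain ⟨d, hd, hp, rfl⟩ := Φ.exists_diag hg
  have e : Φ.mono 1 d hd hp = Φ.tA (hd 0) 0 5 * Φ.tA (hd 1) 1 5 * Φ.tA (hd 2) 2 5 * Φ.tA (hd 3) 3 5 *
      Φ.tA (hd 4) 4 5 := act_ext fun r => by
    rw [Φ.mono_single, Equiv.Perm.one_apply]
    simp only [act_mul, tA_single, act_smul, smul_smul]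
    congr 1
    rw [Fin.prod_univ_six] at hp
    have h5 : d 5 = (d 0 * d 1 * d 2 * d 3 * d 4) ^ 2 := by
      rw [← Φ.inv_sq (mul_ne_zero (mul_ne_zero (mul_ne_zero (mul_ne_zero (hd 0) (hd 1)) (hd 2)) (hd 3)) (hd 4))]
      exact (inv_eq_of_mul_eq_one_right hp).symm
    fin_cases r <;> simp [dA, h5] <;> ring
  rw [e]
  exact mul_mem (mul_mem (mul_mem (mul_mem (hall _ 0 (by decide)) (hall _ 1 (by decide))) (hall _ 2 (by decide)))
    (hall _ 3 (by decide))) (hall _ 4 (by decide))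

theorem conj_tt (σ : Equiv.Perm (Fin 6)) (i j : Fin 6) :
    Φ.permEl σ * Φ.tt i j * (Φ.permEl σ)⁻¹ = Φ.tt (σ i) (σ j) := by
  rw [mul_inv_eq_iff_eq_mul]
  refine act_ext fun r => ?_
  rw [mul_smul, mul_smul, tt_single, act_smul]
  have e : Φ.permEl σ • (Pi.single r 1 : Fin 6 → F) = Pi.single (σ r) 1 :=
    (Φ.mono_single σ (fun _ => 1) (fun _ => one_ne_zero) (by simp) r).trans (one_smul F _)
  rw [e, tt_single]
  congr 1
  simp [dA, σ.injective.eq_iff]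

include Φ in
theorem center_le_Diag : Subgroup.center ↥(Cfsg.SU 6 F 2) ≤ Diag := by
  intro z hz
  haveI := Φ.finite_field
  let f : {x : F // x ≠ 0} → Subgroup.center ↥(Cfsg.SU 6 F 2) := fun x => ⟨Φ.scal x.2, Φ.scal_mem x.2⟩
  have hf : Function.Injective f := fun x y h => Subtype.ext (by
    simpa [f, Φ.scal_smul] using congrFun (congrArg (fun u : Subgroup.center ↥(Cfsg.SU 6 F 2) =>
      u.1 • (Pi.single 0 1 : Fin 6 → F)) h) 0)
  obtain ⟨x, hx⟩ := (hf.bijective_of_nat_card_le (by rw [Φ.card_center, Φ.card_ne_zero_elems])).2 ⟨z, hz⟩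
  have e : Φ.scal x.2 = z := congrArg Subtype.val hx
  exact e ▸ fun j => ⟨_, Φ.scal_smul x.2 _⟩

end GF4

theorem IsCover.center_eq (Φ : GF4 F) {H : Subgroup ↥(Cfsg.SU 6 F 2)} (h : IsCover H) :
    Subgroup.center H = (Subgroup.center ↥(Cfsg.SU 6 F 2)).subgroupOf H := by
  haveI := Φ.finite_field
  refine (Subgroup.eq_of_le_of_card_ge (fun z hz => ?_) ?_).symm
  · exact Subgroup.mem_center_iff.2 fun w => Subtype.ext (Subgroup.mem_center_iff.1 hz w)
  · rw [Nat.card_congr (Subgroup.subgroupOfEquivOfLe h.center_le).toEquiv, Φ.card_center, h.card_center]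

namespace GF4

variable (Φ : GF4 F)

theorem one_mem_list : (1 : ℕ) ∈ [1, 2, 3] := by simp

/-- The first model modulo its centre. -/
abbrev Q1 : Type _ := Φ.Kc 1 ⧸ Subgroup.center (Φ.Kc 1)

/-- `x` lifts `g`. -/
def Lft {K : Type*} [Group K] (π : K →* Φ.Q1) (x : K) (g : ↥(Cfsg.SU 6 F 2)) : Prop :=
  ∃ hg : g ∈ Φ.Kc 1, π x = QuotientGroup.mk (⟨g, hg⟩ : Φ.Kc 1)

section Lift

variable {K : Type*} [Group K] {π : K →* Φ.Q1}

theorem lft_mul {x y : K} {g h : ↥(Cfsg.SU 6 F 2)} (hx : Φ.Lft π x g) (hy : Φ.Lft π y h) :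
    Φ.Lft π (x * y) (g * h) := by
  obtain ⟨a, ha⟩ := hx
  obtain ⟨b, hb⟩ := hy
  exact ⟨mul_mem a b, by rw [map_mul, ha, hb]; rfl⟩

theorem lft_inv {x : K} {g : ↥(Cfsg.SU 6 F 2)} (hx : Φ.Lft π x g) : Φ.Lft π x⁻¹ g⁻¹ := by
  obtain ⟨a, ha⟩ := hx
  exact ⟨inv_mem a, by rw [map_inv, ha]; rfl⟩

theorem lft_one : Φ.Lft π 1 1 := ⟨one_mem _, by rw [map_one]; rfl⟩

variable (hker : π.ker = Subgroup.center K)
include hker

theorem lft_comm {x z : K} {g : ↥(Cfsg.SU 6 F 2)} (hx : Φ.Lft π x g) (hz : Φ.Lft π z g) :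
    ∀ u, u * (x⁻¹ * z) = x⁻¹ * z * u := by
  obtain ⟨a, ha⟩ := hx
  obtain ⟨b, hb⟩ := hz
  have : x⁻¹ * z ∈ π.ker := by rw [MonoidHom.mem_ker, map_mul, map_inv, ha, hb, inv_mul_cancel]
  rw [hker] at this
  exact fun u => Subgroup.mem_center_iff.1 this u

theorem lft_unique_comm {x x' y y' : K} {g h : ↥(Cfsg.SU 6 F 2)} (hx : Φ.Lft π x g) (hx' : Φ.Lft π x' g)
    (hy : Φ.Lft π y h) (hy' : Φ.Lft π y' h) :
    x' * y' * x'⁻¹ * y'⁻¹ = x * y * x⁻¹ * y⁻¹ := by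
  have := comm_shift (a := x) (b := y) (Φ.lft_comm hker hx hx') (Φ.lft_comm hker hy hy')
  rwa [mul_inv_cancel_left, mul_inv_cancel_left] at this

theorem lft_center {z : K} (hz : Φ.Lft π z 1) : z ∈ Subgroup.center K := by
  obtain ⟨a, ha⟩ := hz
  rw [← hker, MonoidHom.mem_ker, ha]
  rfl

theorem lft_scalar {z : K} {g : ↥(Cfsg.SU 6 F 2)} (hg : g ∈ Subgroup.center ↥(Cfsg.SU 6 F 2))
    (hz : Φ.Lft π z g) : z ∈ Subgroup.center K := by
  obtain ⟨a, ha⟩ := hz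
  rw [← hker, MonoidHom.mem_ker, ha, QuotientGroup.eq_one_iff, (Φ.isCover_Kc one_mem_list).center_eq Φ,
    Subgroup.mem_subgroupOf]
  exact hg

variable (hsurj : Function.Surjective π) (hc : Nat.card (Subgroup.center K) = 3)
include hsurj

omit hker in
theorem exists_lft {g : ↥(Cfsg.SU 6 F 2)} (hg : g ∈ Φ.Kc 1) : ∃ x, Φ.Lft π x g := by
  obtain ⟨x, hx⟩ := hsurj (QuotientGroup.mk (⟨g, hg⟩ : Φ.Kc 1))
  exact ⟨x, hg, hx⟩

/-- The lifts of `h` commute with those of `g`. -/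
def CommLifts (π : K →* Φ.Q1) (g h : ↥(Cfsg.SU 6 F 2)) : Prop :=
  ∀ x y, Φ.Lft π x g → Φ.Lft π y h → x * y = y * x

/-- The elements whose lifts commute with those of `g`. -/
def commSet (g : ↥(Cfsg.SU 6 F 2)) : Subgroup ↥(Cfsg.SU 6 F 2) where
  carrier := {h | h ∈ Φ.Kc 1 ∧ Φ.CommLifts π g h}
  one_mem' := ⟨one_mem _, fun x y _ hy => Subgroup.mem_center_iff.1 (Φ.lft_center hker hy) x⟩
  mul_mem' {h k} hh hk := by
    refine ⟨mul_mem hh.1 hk.1, fun x y hx hy => ?_⟩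
    obtain ⟨a, ha⟩ := Φ.exists_lft hsurj hh.1
    obtain ⟨b, hb⟩ := Φ.exists_lft hsurj hk.1
    have hy' : y = a * b * ((a * b)⁻¹ * y) := (mul_inv_cancel_left _ _).symm
    have e : x * (a * b) = a * b * x := by
      rw [← mul_assoc, hh.2 x a hx ha, mul_assoc, hk.2 x b hx hb, mul_assoc]
    rw [hy', ← mul_assoc x, e, mul_assoc, Φ.lft_comm hker (Φ.lft_mul ha hb) hy x, ← mul_assoc]
  inv_mem' {h} hh := by
    refine ⟨inv_mem hh.1, fun x y hx hy => ?_⟩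
    have := hh.2 x y⁻¹ hx (by simpa using Φ.lft_inv hy)
    exact (Commute.inv_right (this : Commute x y⁻¹)).eq.trans (by rw [inv_inv]) |> fun e => by simpa using e

omit hker hsurj in
theorem tt_mem_Kc (i j : Fin 6) : Φ.tt i j ∈ Φ.Kc 1 := Φ.Diag_le_Kc one_mem_list (Φ.tt_mem i j)

include hc

theorem commute_disjoint {i j k l : Fin 6} (hik : i ≠ k) (hjl : j ≠ l) (hij : i ≠ j) (hil : i ≠ l)
    (hjk : j ≠ k) (hkl : k ≠ l) : Φ.CommLifts π (Φ.tt i j) (Φ.tt k l) := by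
  intro x y hx hy
  have hσ : Φ.permEl (Equiv.swap i k * Equiv.swap j l) ∈ Φ.Kc 1 :=
    Φ.permEl_mem_Kc one_mem_list (double_swap i k j l hik hjl)
  obtain ⟨s, hs⟩ := Φ.exists_lft hsurj hσ
  have h1 : Φ.Lft π (s * x * s⁻¹) (Φ.tt k l) := by
    have := Φ.lft_mul (Φ.lft_mul hs hx) (Φ.lft_inv hs)
    rwa [conj_tt, Equiv.Perm.mul_apply, Equiv.Perm.mul_apply, Equiv.swap_apply_of_ne_of_ne hij hil,
      Equiv.swap_apply_left, Equiv.swap_apply_left, Equiv.swap_apply_of_ne_of_ne hil.symm hkl.symm] at this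
  have h2 : Φ.Lft π (s * y * s⁻¹) (Φ.tt i j) := by
    have := Φ.lft_mul (Φ.lft_mul hs hy) (Φ.lft_inv hs)
    rwa [conj_tt, Equiv.Perm.mul_apply, Equiv.Perm.mul_apply, Equiv.swap_apply_of_ne_of_ne hjk.symm hkl,
      Equiv.swap_apply_right, Equiv.swap_apply_right, Equiv.swap_apply_of_ne_of_ne hij.symm hjk] at this
  obtain ⟨hc0, -⟩ : x * y * x⁻¹ * y⁻¹ ∈ Subgroup.center K ∧ True := by
    refine ⟨Φ.lft_center hker ?_, trivial⟩
    have := Φ.lft_mul (Φ.lft_mul (Φ.lft_mul hx hy) (Φ.lft_inv hx)) (Φ.lft_inv hy)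
    have e : Φ.tt i j * Φ.tt k l * (Φ.tt i j)⁻¹ * (Φ.tt k l)⁻¹ = 1 := by
      rw [show Φ.tt i j * Φ.tt k l = Φ.tt k l * Φ.tt i j from act_ext fun r => by
        rw [mul_smul, mul_smul, tt_single, act_smul, tt_single, act_smul, tt_single, smul_comm]]
      rw [mul_inv_cancel_right, mul_inv_cancel]
    rwa [e] at this
  set c := x * y * x⁻¹ * y⁻¹ with hcdef
  have e : c = c⁻¹ := by
    calc c = s * c * s⁻¹ := by rw [Subgroup.mem_center_iff.1 hc0 s, mul_inv_cancel_right]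
      _ = (s * x * s⁻¹) * (s * y * s⁻¹) * (s * x * s⁻¹)⁻¹ * (s * y * s⁻¹)⁻¹ := by rw [hcdef]; group
      _ = y * x * y⁻¹ * x⁻¹ := Φ.lft_unique_comm hker hy h1 hx h2
      _ = c⁻¹ := by rw [hcdef]; group
  have h3 : c ^ 3 = 1 := by
    have := pow_card_eq_one' (x := (⟨c, hc0⟩ : Subgroup.center K))
    rw [hc] at this
    exact congrArg Subtype.val this
  have h1c : c = 1 := by
    rw [pow_succ, pow_two] at h3
    nth_rewrite 2 [e] at h3
    rwa [mul_inv_cancel, one_mul] at h3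
  rw [hcdef, mul_inv_eq_one, mul_inv_eq_iff_eq_mul] at h1c
  exact h1c

omit hker hsurj hc in
theorem tt_ident {i j k l m : Fin 6} (hnd : [i, j, 5, k, l, m].Nodup) (hall : ∀ r : Fin 6, r ∈ [i, j, 5, k, l, m]) :
    Φ.tt j 5 = Φ.scal Φ.w_ne_zero * (Φ.tt i 5 * Φ.tt i 5) * (Φ.tt k l * Φ.tt k l) * Φ.tt l m := by
  refine act_ext fun r => ?_
  simp only [act_mul, tt_single, act_smul, smul_smul, Φ.scal_smul]
  congr 1
  have h := hall r
  simp only [List.nodup_cons, List.mem_cons, List.not_mem_nil, or_false, not_or, List.nodup_nil, and_true,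
    not_false_eq_true] at hnd
  obtain ⟨⟨a1, a2, a3, a4, a5⟩, ⟨b1, b2, b3, b4⟩, ⟨c1, c2, c3⟩, ⟨d1, d2⟩, e1⟩ := hnd
  simp only [List.mem_cons, List.not_mem_nil, or_false] at h
  have w3 := Φ.cube Φ.w_ne_zero
  rcases h with rfl | rfl | rfl | rfl | rfl | rfl <;>
    simp [dA, a1, a2, a3, a4, a5, b1, b2, b3, b4, c1, c2, c3, d1, d2, e1, Ne.symm a1, Ne.symm a2, Ne.symm a3,
      Ne.symm a4, Ne.symm a5, Ne.symm b1, Ne.symm b2, Ne.symm b3, Ne.symm b4, Ne.symm c1, Ne.symm c2, Ne.symm c3,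
      Ne.symm d1, Ne.symm d2, Ne.symm e1] <;>
    first
      | linear_combination (0 : F) * w3
      | linear_combination -w3
      | linear_combination (-(Φ.w ^ 2)) * w3
      | linear_combination (-(Φ.w ^ 3) - 1) * w3

theorem commute_basic {i j : Fin 6} (hi : i ≠ 5) (hj : j ≠ 5) : Φ.CommLifts π (Φ.tt i 5) (Φ.tt j 5) := by
  by_cases hij : i = j
  · subst hij
    intro x y hx hy
    have h := Φ.lft_comm hker hx hy x
    rw [← mul_inv_cancel_left x y, mul_assoc x (x⁻¹ * y) x, ← h]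
  obtain ⟨k, l, m, hnd, hall⟩ := third i j hij hi hj
  suffices Φ.tt j 5 ∈ Φ.commSet hker hsurj (Φ.tt i 5) from this.2
  have hnd' := hnd
  simp only [List.nodup_cons, List.mem_cons, List.not_mem_nil, or_false, not_or, List.nodup_nil, and_true,
    not_false_eq_true] at hnd'
  obtain ⟨⟨-, -, a3, a4, a5⟩, -, ⟨c1, c2, c3⟩, ⟨d1, -⟩, e1⟩ := hnd'
  rw [Φ.tt_ident hnd hall]
  have hself : Φ.tt i 5 ∈ Φ.commSet hker hsurj (Φ.tt i 5) := ⟨Φ.tt_mem_Kc i 5, fun x y hx hy => by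
    have h := Φ.lft_comm hker hx hy x
    rw [← mul_inv_cancel_left x y, mul_assoc x (x⁻¹ * y) x, ← h]⟩
  have hscal : Φ.scal Φ.w_ne_zero ∈ Φ.commSet hker hsurj (Φ.tt i 5) :=
    ⟨(Φ.isCover_Kc one_mem_list).center_le (Φ.scal_mem _), fun x y _ hy =>
      Subgroup.mem_center_iff.1 (Φ.lft_scalar hker (Φ.scal_mem _) hy) x⟩
  have hkl : Φ.tt k l ∈ Φ.commSet hker hsurj (Φ.tt i 5) :=
    ⟨Φ.tt_mem_Kc k l, Φ.commute_disjoint hker hsurj hc a3 c2 hi a4 c1 d1⟩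
  have hlm : Φ.tt l m ∈ Φ.commSet hker hsurj (Φ.tt i 5) :=
    ⟨Φ.tt_mem_Kc l m, Φ.commute_disjoint hker hsurj hc a4 c3 hi a5 c2 e1⟩
  exact mul_mem (mul_mem (mul_mem hscal (mul_mem hself hself)) (mul_mem hkl hkl)) hlm

theorem commute_diag {g h : ↥(Cfsg.SU 6 F 2)} (hg : g ∈ Diag) (hh : h ∈ Diag) : Φ.CommLifts π g h := by
  refine (Φ.diag_le_of_tt (H := Φ.commSet hker hsurj g) (fun j hj => ?_) hh).2
  refine ⟨Φ.tt_mem_Kc j 5, fun x y hx hy => (?_ : Φ.CommLifts π (Φ.tt j 5) g) y x hy hx |>.symm⟩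
  exact (Φ.diag_le_of_tt (H := Φ.commSet hker hsurj (Φ.tt j 5))
    (fun i hi => ⟨Φ.tt_mem_Kc i 5, Φ.commute_basic hker hsurj hc hj hi⟩) hg).2

theorem cube_tt {i : Fin 6} (hi : i ≠ 5) {x : K} (hx : Φ.Lft π x (Φ.tt i 5)) : x ^ 3 = 1 := by
  obtain ⟨k, l, hk⟩ : ∃ k l : Fin 6, [i, 5, k, l].Nodup := by
    clear hx; revert i; decide
  simp only [List.nodup_cons, List.mem_cons, List.not_mem_nil, or_false, not_or, List.nodup_nil, and_true,
    not_false_eq_true] at hk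
  obtain ⟨⟨-, a2, a3⟩, ⟨b1, b2⟩, c1⟩ := hk
  obtain ⟨s, hs⟩ := Φ.exists_lft hsurj (Φ.permEl_mem_Kc one_mem_list (double_swap i 5 k l hi c1))
  have h1 : Φ.Lft π (s * x * s⁻¹) (Φ.tt i 5)⁻¹ := by
    have := Φ.lft_mul (Φ.lft_mul hs hx) (Φ.lft_inv hs)
    rw [conj_tt, Equiv.Perm.mul_apply, Equiv.Perm.mul_apply, Equiv.swap_apply_of_ne_of_ne a2 a3,
      Equiv.swap_apply_left, Equiv.swap_apply_of_ne_of_ne b1 b2, Equiv.swap_apply_right] at this
    rwa [show (Φ.tt i 5)⁻¹ = Φ.tt 5 i from inv_eq_of_mul_eq_one_right (act_ext fun r => by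
      rw [mul_smul, tt_single, act_smul, tt_single, one_smul, smul_smul]
      have w3 := Φ.cube Φ.w_ne_zero
      by_cases hri : r = i
      · subst hri; simp [dA, hi]; rw [show Φ.w ^ 2 * Φ.w = 1 by linear_combination w3, one_smul]
      · by_cases hr5 : r = 5
        · subst hr5; simp [dA, Ne.symm hi]; rw [show Φ.w * Φ.w ^ 2 = 1 by linear_combination w3, one_smul]
        · simp [dA, hri, hr5])]
  have hcz := Φ.lft_comm hker (Φ.lft_inv hx) h1
  rw [inv_inv] at hcz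
  obtain ⟨z, hz, e⟩ : ∃ z : K, (∀ u, u * z = z * u) ∧ s * x * s⁻¹ = x⁻¹ * z :=
    ⟨_, hcz, (inv_mul_cancel_left x _).symm⟩
  have hzc : z ∈ Subgroup.center K := Subgroup.mem_center_iff.2 hz
  have z3 : ∀ u ∈ Subgroup.center K, u ^ 3 = 1 := fun u hu => by
    have := pow_card_eq_one' (x := (⟨u, hu⟩ : Subgroup.center K))
    rw [hc] at this
    exact congrArg Subtype.val this
  have hx3 : x ^ 3 ∈ Subgroup.center K := by
    refine Φ.lft_center hker ?_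
    have := Φ.lft_mul (Φ.lft_mul hx hx) hx
    rw [show Φ.tt i 5 * Φ.tt i 5 * Φ.tt i 5 = 1 from act_ext fun r => by
      simp only [act_mul, tt_single, act_smul, smul_smul, one_smul]
      rw [show dA Φ.w i 5 r * (dA Φ.w i 5 r * dA Φ.w i 5 r) = 1 by
        linear_combination Φ.cube (dA_ne Φ.w_ne_zero i 5 r), one_smul]] at this
    rwa [pow_succ, pow_two]
  have h3 : x ^ 3 = (x ^ 3)⁻¹ := by
    calc x ^ 3 = s * x ^ 3 * s⁻¹ := by rw [Subgroup.mem_center_iff.1 hx3 s, mul_inv_cancel_right]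
      _ = (s * x * s⁻¹) ^ 3 := (conj_pow).symm
      _ = (x ^ 3)⁻¹ := by rw [e, (show Commute x⁻¹ z from hz _).mul_pow, z3 z hzc, mul_one, inv_pow]
  have h9 := z3 _ hx3
  rw [pow_succ, pow_two] at h9
  nth_rewrite 2 [h3] at h9
  rwa [mul_inv_cancel, one_mul] at h9

/-- The elements with lifts of order dividing three. -/
theorem cube_diag {g : ↥(Cfsg.SU 6 F 2)} (hg : g ∈ Diag) {x : K} (hx : Φ.Lft π x g) : x ^ 3 = 1 := by
  have z3 : ∀ u ∈ Subgroup.center K, u ^ 3 = 1 := fun u hu => by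
    have := pow_card_eq_one' (x := (⟨u, hu⟩ : Subgroup.center K))
    rw [hc] at this
    exact congrArg Subtype.val this
  let H : Subgroup ↥(Cfsg.SU 6 F 2) :=
    { carrier := {g | g ∈ Diag ∧ ∀ x, Φ.Lft π x g → x ^ 3 = 1}
      one_mem' := ⟨one_mem _, fun x hx => z3 x (Φ.lft_center hker hx)⟩
      mul_mem' := fun {a b} ha hb => ⟨mul_mem ha.1 hb.1, fun x hx => by
        obtain ⟨u, hu⟩ := Φ.exists_lft hsurj (Φ.Diag_le_Kc one_mem_list ha.1)
        obtain ⟨v, hv⟩ := Φ.exists_lft hsurj (Φ.Diag_le_Kc one_mem_list hb.1)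
        have hcz := Φ.lft_comm hker (Φ.lft_mul hu hv) hx
        obtain ⟨z, hz, rfl⟩ : ∃ z : K, (∀ t, t * z = z * t) ∧ x = u * v * z :=
          ⟨_, hcz, (mul_inv_cancel_left _ _).symm⟩
        rw [(show Commute (u * v) z from hz _).mul_pow, z3 z (Subgroup.mem_center_iff.2 hz), mul_one,
          (show Commute u v from Φ.commute_diag hker hsurj hc ha.1 hb.1 u v hu hv).mul_pow, ha.2 u hu, hb.2 v hv,
          one_mul]⟩
      inv_mem' := fun {a} ha => ⟨inv_mem ha.1, fun x hx => by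
        have := ha.2 x⁻¹ (by simpa using Φ.lft_inv hx)
        rwa [inv_pow, inv_eq_one] at this⟩ }
  exact (Φ.diag_le_of_tt (H := H) (fun i hi => ⟨Φ.tt_mem i 5, fun x hx => Φ.cube_tt hker hsurj hc hi hx⟩) hg).2 x hx

end Lift

end GF4

end Cfsg.Agent.U62Sub
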