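import Cfsg.Agent.Lib.U62Sub.Code

/-!
# Finite facts about the coded vectors

The coordinate vectors are the unit vectors off which exactly forty-five vectors of weight two lie.
-/

set_option autoImplicit false
set_option maxRecDepth 100000
set_option maxHeartbeats 4000000

namespace Cfsg.Agent.U62Sub

/-- The vectors of weight two. -/
def L0 : List ℕ := [5, 6, 7, 9, 10, 11, 13, 14, 15, 17, 18, 19, 20, 24, 28, 33, 34, 35, 36, 40, 44, 49, 50, 51, 52, 56,
60, 65, 66, 67, 68, 72, 76, 80, 96, 112, 129, 130, 131, 132, 136, 140, 144, 160, 176, 193, 194, 195,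
196, 200, 204, 208, 224, 240, 257, 258, 259, 260, 264, 268, 272, 288, 304, 320, 384, 448, 513, 514,
515, 516, 520, 524, 528, 544, 560, 576, 640, 704, 769, 770, 771, 772, 776, 780, 784, 800, 816, 832,
896, 960, 1025, 1026, 1027, 1028, 1032, 1036, 1040, 1056, 1072, 1088, 1152, 1216, 1280, 1536, 1792,
2049, 2050, 2051, 2052, 2056, 2060, 2064, 2080, 2096, 2112, 2176, 2240, 2304, 2560, 2816, 3073,
3074, 3075, 3076, 3080, 3084, 3088, 3104, 3120, 3136, 3200, 3264, 3328, 3584, 3840]

theorem L0_spec : (List.range 4096).filter (fun n => cls n == 0) = L0 := by decide +kernel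

/-- The vectors of weight two not orthogonal to a given one. -/
def off0 (n : ℕ) : ℕ := L0.countP fun q => hC q n != 0

theorem off0_unit : ∀ j < 6, off0 (4 ^ j) = 45 := by decide +kernel

/-- The certificate for coordinate vectors. -/
noncomputable def offAll : Bool := Chev.allLt 4096 fun n =>
  !Nat.beq (hC n n) 1 || Nat.beq (wt n) 1 || !Nat.beq (off0 n) 45

theorem offAll_true : offAll = true := by decide +kernel

theorem wt_of_off0 : ∀ n < 4096, hC n n = 1 → off0 n = 45 → wt n = 1 := by
  intro n hn h1 h45
  have h := Chev.allLt_iff.1 offAll_true n hn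
  simpa [h1, h45] using h

end Cfsg.Agent.U62Sub
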