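import Cfsg.Agent.Lib.U62Sub.Code

/-!
# Finite facts about the coded vectors

Checked by kernel evaluation: the sizes of the classes, the witnesses that a monomial element of
determinant one carries a representative to each member of its class, and a characterisation
of coordinate vectors.
-/

set_option autoImplicit false
set_option maxRecDepth 100000
set_option maxHeartbeats 4000000

namespace Cfsg.Agent.U62Sub

open Cfsg.Agent.Chev (allLt allLt_iff)

/-- Pairs of transpositions. -/
def swaps : List (Fin 6 × Fin 6 × Fin 6 × Fin 6) := [(0, 1, 0, 1), (0, 1, 0, 4), (0, 1, 0, 5), (0, 1, 1, 4), (0, 1, 1, 5), (0, 2, 3, 4), (0, 3, 2, 4),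
(0, 4, 1, 5), (1, 2, 3, 5), (1, 3, 2, 5), (0, 4, 2, 5), (0, 4, 3, 5), (1, 4, 2, 5), (1, 4, 3, 5),
(2, 4, 3, 5), (0, 2, 1, 3), (0, 2, 1, 4), (0, 2, 1, 5), (0, 3, 1, 4), (0, 3, 1, 5)]

/-- The permutation of a quadruple. -/
def swPerm (s : Fin 6 × Fin 6 × Fin 6 × Fin 6) : Equiv.Perm (Fin 6) :=
  Equiv.swap s.1 s.2.1 * Equiv.swap s.2.2.1 s.2.2.2

/-- The representative of a class. -/
def rep (k : ℕ) : ℕ := if k = 0 then 5 else if k = 1 then 85 else 341 + 1024 * (k - 1)

/-- A coordinate outside the support of the representative. -/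
def free (k : ℕ) : ℕ := if k = 0 then 2 else if k = 1 then 4 else 9

/-- The diagonal of a witness. -/
def witD (n k x : ℕ) (s : Fin 6 × Fin 6 × Fin 6 × Fin 6) (i : ℕ) : ℕ :=
  if dig (rep k) i = 0 then (if i = free k then x else 1)
  else mulC (dig n (swPerm s (Fin.ofNat 6 i))) (mulC (dig (rep k) i) (dig (rep k) i))

/-- The witness test. -/
def witOK (n k x : ℕ) (s : Fin 6 × Fin 6 × Fin 6 × Fin 6) : Bool :=
  ((List.range 6).all fun i => witD n k x s i != 0 &&
    mulC (witD n k x s i) (dig (rep k) i) == dig n (swPerm s (Fin.ofNat 6 i))) &&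
  prodC (pack (witD n k x s)) == 1

/-- The witness certificate. -/
noncomputable def witAll : Bool := allLt 4096 fun n =>
  Nat.ble 5 (cls n) || swaps.any fun s => [1, 2, 3].any fun x => witOK n (cls n) x s

theorem witAll_true : witAll = true := by decide +kernel

theorem witness : ∀ n < 4096, cls n < 5 → ∃ s ∈ swaps, ∃ x ∈ [1, 2, 3], witOK n (cls n) x s = true := by
  intro n hn hk
  have h := allLt_iff.1 witAll_true n hn
  simp only [Bool.or_eq_true, Nat.ble_eq, List.any_eq_true] at h
  exact h.resolve_left (by omega)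

theorem swaps_sign : ∀ s ∈ swaps, Equiv.Perm.sign (swPerm s) = 1 := by decide +kernel

theorem rep_cls : ∀ k < 5, rep k < 4096 ∧ cls (rep k) = k := by decide +kernel

theorem units_count : ((Finset.range 4096).filter fun n => (hC n n == 1) = true).card = 2016 := by
  decide +kernel

theorem class_count : ∀ k < 5, ((Finset.range 4096).filter fun n => (cls n == k) = true).card =
    [135, 1215, 243, 243, 243].getD k 0 := by
  decide +kernel

/-- The certificate for isotropic vectors. -/
noncomputable def isoAll : Bool := allLt 4096 fun n =>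
  Nat.beq n 0 || !Nat.beq (hC n n) 0 || Nat.blt (cls n) 5

theorem isoAll_true : isoAll = true := by decide +kernel

theorem isotropic_cls : ∀ n < 4096, n ≠ 0 → hC n n = 0 → cls n < 5 := by
  intro n hn h0 h1
  have h := allLt_iff.1 isoAll_true n hn
  simpa [h0, h1] using h

/-- The three vectors on a line through the first coordinate vector. -/
def lineOK (c n : ℕ) : Bool := inS c (1 ^^^ n) && inS c (1 ^^^ sC 2 n) && inS c (1 ^^^ sC 3 n)

/-- The certificate for lines. -/
noncomputable def linesAll : Bool := allLt 4096 fun n =>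
  !Nat.beq (hC n n) 1 || !Nat.beq (hC 1 n) 0 || ((!lineOK 1 n && !lineOK 2 n && !lineOK 3 n) || Nat.beq (wt n) 1)

theorem linesAll_true : linesAll = true := by decide +kernel

theorem wt_of_lines : ∀ c ∈ [1, 2, 3], ∀ n < 4096, hC n n = 1 → hC 1 n = 0 → lineOK c n = true → wt n = 1 := by
  intro c hc n hn h1 h0 hl
  have h := allLt_iff.1 linesAll_true n hn
  simp only [List.mem_cons, List.not_mem_nil, or_false] at hc
  rcases hc with rfl | rfl | rfl <;> simpa [h1, h0, hl] using h

/-- The members of the set of 864 vectors orthogonal to a given one. -/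
def orth288 (n : ℕ) : ℕ :=
  ((List.range 4096).filter fun q => (cls q == 0 || (2 ≤ cls q && cls q < 5)) && hC n q == 0).length

theorem orth288_ne : orth288 (rep 0) ≠ orth288 (rep 2) := by decide +kernel

end Cfsg.Agent.U62Sub
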