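import Cfsg.Agent.Lib.Forms.SmallPSU4
import Mathlib.FieldTheory.Finite.Basic
import Cfsg.Agent.Lib.Chev.Tab

/-!
# Coded vectors of the unitary space of dimension six over the field with four elements

A vector is a number below `4096`, two bits for each coordinate; `cls` sorts the isotropic vectors
by weight and, in weight six, by the product of the coordinates.
-/

set_option autoImplicit false

namespace Cfsg.Agent.U62Sub

open Cfsg

/-- The packed product table. -/
def mulT : ℕ := 0x9c78e400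

/-- The product on codes. -/
def mulC (a b : ℕ) : ℕ := (mulT >>> (2 * (4 * a + b))) &&& 3

/-- A coordinate of a coded vector. -/
def dig (n i : ℕ) : ℕ := (n >>> (2 * i)) &&& 3

/-- The vector with given coordinates. -/
def pack (f : ℕ → ℕ) : ℕ := f 0 + 4 * f 1 + 16 * f 2 + 64 * f 3 + 256 * f 4 + 1024 * f 5

/-- The coded form. -/
def hC (n m : ℕ) : ℕ :=
  let t := fun i => mulC (dig n i) (mulC (dig m i) (dig m i))
  t 0 ^^^ t 1 ^^^ t 2 ^^^ t 3 ^^^ t 4 ^^^ t 5

/-- A scalar multiple. -/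
def sC (a n : ℕ) : ℕ := pack fun i => mulC a (dig n i)

/-- One for a non-zero digit. -/
def nz (a : ℕ) : ℕ := if a = 0 then 0 else 1

/-- The weight. -/
def wt (n : ℕ) : ℕ :=
  nz (dig n 0) + nz (dig n 1) + nz (dig n 2) + nz (dig n 3) + nz (dig n 4) + nz (dig n 5)

/-- The product of the coordinates. -/
def prodC (n : ℕ) : ℕ :=
  mulC (mulC (mulC (mulC (mulC (dig n 0) (dig n 1)) (dig n 2)) (dig n 3)) (dig n 4)) (dig n 5)

/-- `0`, `1` for the weights two, four; `2`, `3`, `4` for weight six by the product. -/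
def cls (n : ℕ) : ℕ :=
  let w := wt n
  if w = 2 then 0 else if w = 4 then 1 else if w = 6 then 1 + prodC n else 5

/-- Membership of the set of `378` vectors with parameter `c`. -/
def inS (c n : ℕ) : Bool := cls n == 0 || cls n == 1 + c

theorem dig_lt (n i : ℕ) : dig n i < 4 := lt_of_le_of_lt Nat.and_le_right (by norm_num)

theorem mulC_lt (a b : ℕ) : mulC a b < 4 := lt_of_le_of_lt Nat.and_le_right (by norm_num)

theorem dig_eq (n i : ℕ) : dig n i = n / 4 ^ i % 4 := by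
  rw [dig, Nat.shiftRight_eq_div_pow, show (3 : ℕ) = 2 ^ 2 - 1 from rfl, Nat.and_two_pow_sub_one_eq_mod,
    show 2 ^ (2 * i) = 4 ^ i by rw [pow_mul]; norm_num]

theorem dig_pack {f : ℕ → ℕ} (hf : ∀ i, f i < 4) (i : Fin 6) : dig (pack f) i = f i := by
  have h0 := hf 0; have h1 := hf 1; have h2 := hf 2; have h3 := hf 3; have h4 := hf 4; have h5 := hf 5
  rw [dig_eq, pack]
  fin_cases i <;> simp <;> omega

theorem pack_lt {f : ℕ → ℕ} (hf : ∀ i, f i < 4) : pack f < 4096 := by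
  have h0 := hf 0; have h1 := hf 1; have h2 := hf 2; have h3 := hf 3; have h4 := hf 4; have h5 := hf 5
  rw [pack]; omega

theorem pack_dig {n : ℕ} (h : n < 4096) : pack (dig n) = n := by
  simp only [pack, dig_eq]; omega

theorem dig_xor (a b i : ℕ) : dig (a ^^^ b) i = dig a i ^^^ dig b i := by
  rw [dig, dig, dig, Nat.shiftRight_xor_distrib, Nat.and_xor_distrib_right]

theorem xor_lt {a b : ℕ} (ha : a < 4096) (hb : b < 4096) : a ^^^ b < 4096 :=
  Nat.xor_lt_two_pow (n := 12) ha hb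

theorem sC_lt (a n : ℕ) : sC a n < 4096 := pack_lt fun _ => mulC_lt _ _

theorem dig_sC (a n : ℕ) (i : Fin 6) : dig (sC a n) i = mulC a (dig n i) := dig_pack (fun _ => mulC_lt _ _) i

theorem mulC_table : ∀ a b : Fin 4, mulC a b = (Forms.SmallPSU4.mul4 a b).val := by decide +kernel

theorem add_table : ∀ a b : Fin 4, (a.val ^^^ b.val) = (Forms.SmallPSU4.add4 a b).val := by decide +kernel

/-- A field with four elements and a primitive cube root of unity. -/
structure GF4 (F : Type*) [Field F] where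
  /-- The root. -/
  w : F
  two : (2 : F) = 0
  hw : w ^ 2 + w + 1 = 0
  surj : ∀ x : F, x = 0 ∨ x = 1 ∨ x = w ∨ x = w ^ 2

variable {F : Type*} [Field F]

theorem exists_GF4 [Fintype F] (hF : Fintype.card F = 4) : Nonempty (GF4 F) := by
  classical
  have h2 : (2 : F) = 0 := by
    have h4 : ((4 : ℕ) : F) = 0 := by rw [← hF]; exact Nat.cast_card_eq_zero F
    have : (2 : F) * 2 = 0 := by rw [show (2 : F) * 2 = ((4 : ℕ) : F) by norm_num]; exact h4
    exact (mul_self_eq_zero.1 this)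
  obtain ⟨w, -, hw⟩ := Finset.exists_mem_notMem_of_card_lt_card (s := ({0, 1} : Finset F)) (t := Finset.univ)
    (by rw [Finset.card_univ, hF]; exact lt_of_le_of_lt Finset.card_le_two (by norm_num))
  simp only [Finset.mem_insert, Finset.mem_singleton, not_or] at hw
  have h3 : w ^ 3 = 1 := by
    have := FiniteField.pow_card_sub_one_eq_one w hw.1
    rwa [hF] at this
  have hm : (w - 1) * (w ^ 2 + w + 1) = 0 := by linear_combination h3
  have hq : w ^ 2 + w + 1 = 0 := (mul_eq_zero.1 hm).resolve_left (sub_ne_zero.2 hw.2)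
  refine ⟨⟨w, h2, hq, fun x => ?_⟩⟩
  have hb : Function.Bijective (Forms.SmallPSU4.dec w) :=
    (Fintype.bijective_iff_injective_and_card _).2 ⟨Forms.SmallPSU4.dec_injective h2 hq, by simp [hF]⟩
  obtain ⟨a, rfl⟩ := hb.2 x
  fin_cases a <;> simp [Forms.SmallPSU4.dec]

namespace GF4

variable (Φ : GF4 F)

/-- The element with a given code. -/
def val (a : ℕ) : F := Forms.SmallPSU4.dec Φ.w (Fin.ofNat 4 a)

/-- The vector with a given code. -/
def vec (n : ℕ) : Fin 6 → F := fun i => Φ.val (dig n i)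

theorem val_zero : Φ.val 0 = 0 := rfl

theorem val_one : Φ.val 1 = 1 := rfl

theorem val_two : Φ.val 2 = Φ.w := rfl

theorem val_three : Φ.val 3 = Φ.w ^ 2 := rfl

theorem ofNat_val {a : ℕ} (ha : a < 4) : (Fin.ofNat 4 a).val = a := Nat.mod_eq_of_lt ha

theorem val_mul {a b : ℕ} (ha : a < 4) (hb : b < 4) : Φ.val (mulC a b) = Φ.val a * Φ.val b := by
  rw [val, val, val, ← Forms.SmallPSU4.dec_mul Φ.hw]
  congr 1
  apply Fin.ext
  rw [ofNat_val (mulC_lt _ _), ← mulC_table, ofNat_val ha, ofNat_val hb]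

theorem val_add {a b : ℕ} (ha : a < 4) (hb : b < 4) : Φ.val (a ^^^ b) = Φ.val a + Φ.val b := by
  rw [val, val, val, ← Forms.SmallPSU4.dec_add Φ.two Φ.hw]
  congr 1
  apply Fin.ext
  rw [ofNat_val (Nat.xor_lt_two_pow (n := 2) ha hb), ← add_table, ofNat_val ha, ofNat_val hb]

theorem val_inj {a b : ℕ} (ha : a < 4) (hb : b < 4) (h : Φ.val a = Φ.val b) : a = b := by
  have := congrArg Fin.val (Forms.SmallPSU4.dec_injective Φ.two Φ.hw h)
  rwa [ofNat_val ha, ofNat_val hb] at this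

theorem val_surj (x : F) : ∃ a, a < 4 ∧ Φ.val a = x := by
  rcases Φ.surj x with rfl | rfl | rfl | rfl
  exacts [⟨0, by norm_num, rfl⟩, ⟨1, by norm_num, rfl⟩, ⟨2, by norm_num, rfl⟩, ⟨3, by norm_num, rfl⟩]

theorem val_eq_zero {a : ℕ} (ha : a < 4) : Φ.val a = 0 ↔ a = 0 :=
  ⟨fun h => Φ.val_inj ha (by norm_num) h, fun h => by rw [h]; rfl⟩

theorem vec_inj {n m : ℕ} (hn : n < 4096) (hm : m < 4096) (h : Φ.vec n = Φ.vec m) : n = m := by
  rw [← pack_dig hn, ← pack_dig hm]
  have e : ∀ i : Fin 6, dig n i = dig m i := fun i => Φ.val_inj (dig_lt _ _) (dig_lt _ _) (congrFun h i)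
  have e0 := e 0; have e1 := e 1; have e2 := e 2; have e3 := e 3; have e4 := e 4; have e5 := e 5
  simp only [pack]
  simp only [Fin.val_zero, Fin.val_one, Fin.val_two] at e0 e1 e2
  rw [e0, e1, e2, show dig n 3 = dig m 3 from e3, show dig n 4 = dig m 4 from e4, show dig n 5 = dig m 5 from e5]

theorem vec_surj (v : Fin 6 → F) : ∃ n, n < 4096 ∧ Φ.vec n = v := by
  choose f hf hv using fun i => Φ.val_surj (v i)
  have hlt : ∀ i : ℕ, (fun i => f (Fin.ofNat 6 i)) i < 4 := fun i => hf _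
  refine ⟨pack fun i => f (Fin.ofNat 6 i), pack_lt hlt, funext fun i => ?_⟩
  show Φ.val (dig _ i) = v i
  rw [dig_pack hlt, show Fin.ofNat 6 i.val = i from Fin.ext (Nat.mod_eq_of_lt i.2), hv]

theorem vec_xor (n m : ℕ) : Φ.vec (n ^^^ m) = Φ.vec n + Φ.vec m :=
  funext fun i => by
    show Φ.val (dig _ i) = Φ.val _ + Φ.val _
    rw [dig_xor, Φ.val_add (dig_lt _ _) (dig_lt _ _)]

theorem vec_sC {a : ℕ} (ha : a < 4) (n : ℕ) : Φ.vec (sC a n) = Φ.val a • Φ.vec n :=
  funext fun i => by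
    show Φ.val (dig _ i) = Φ.val a * Φ.val _
    rw [dig_sC, Φ.val_mul ha (dig_lt _ _)]

theorem vec_zero : Φ.vec 0 = 0 := funext fun i => by
  show Φ.val (dig 0 i) = 0
  rw [show dig 0 i = 0 by simp [dig]]; rfl

theorem herm_vec (n m : ℕ) : hermForm 6 F 2 (Φ.vec n) (Φ.vec m) = Φ.val (hC n m) := by
  have ht : ∀ i : Fin 6, Φ.vec n i * Φ.vec m i ^ 2 = Φ.val (mulC (dig n i) (mulC (dig m i) (dig m i))) := fun i => by
    rw [Φ.val_mul (dig_lt _ _) (mulC_lt _ _), Φ.val_mul (dig_lt _ _) (dig_lt _ _), sq]; rfl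
  have h4 : ∀ a b : ℕ, a < 4 → b < 4 → a ^^^ b < 4 := fun a b ha hb => Nat.xor_lt_two_pow (n := 2) ha hb
  simp only [hermForm, Fin.sum_univ_six, ht, hC]
  repeat rw [Φ.val_add]
  all_goals first
    | rfl
    | exact mulC_lt _ _
    | (repeat apply h4) <;> exact mulC_lt _ _

theorem hC_lt (n m : ℕ) : hC n m < 4 := by
  have h4 : ∀ a b : ℕ, a < 4 → b < 4 → a ^^^ b < 4 := fun a b ha hb => Nat.xor_lt_two_pow (n := 2) ha hb
  simp only [hC]
  repeat apply h4
  all_goals exact mulC_lt _ _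

theorem herm_vec_zero (n m : ℕ) : hermForm 6 F 2 (Φ.vec n) (Φ.vec m) = 0 ↔ hC n m = 0 := by
  rw [herm_vec, Φ.val_eq_zero (hC_lt n m)]

theorem herm_vec_one (n m : ℕ) : hermForm 6 F 2 (Φ.vec n) (Φ.vec m) = 1 ↔ hC n m = 1 := by
  rw [herm_vec]
  exact ⟨fun h => Φ.val_inj (hC_lt n m) (by norm_num) (h.trans Φ.val_one.symm), fun h => by rw [h, val_one]⟩

/-- The class `k` of isotropic vectors. -/
def Cl (k : ℕ) : Set (Fin 6 → F) := Φ.vec '' {n | n < 4096 ∧ cls n = k}

/-- The set of `378` vectors. -/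
def S (c : ℕ) : Set (Fin 6 → F) := Φ.vec '' {n | n < 4096 ∧ inS c n = true}

theorem mem_S {c n : ℕ} (hn : n < 4096) : Φ.vec n ∈ Φ.S c ↔ inS c n = true := by
  refine ⟨?_, fun h => ⟨n, ⟨hn, h⟩, rfl⟩⟩
  rintro ⟨m, ⟨hm, h⟩, e⟩
  rwa [← Φ.vec_inj hm hn e]

theorem ncard_image (p : ℕ → Bool) :
    (Φ.vec '' {n | n < 4096 ∧ p n = true}).ncard = ((Finset.range 4096).filter fun n => p n = true).card := by
  rw [Set.InjOn.ncard_image (fun a ha b hb e => Φ.vec_inj ha.1 hb.1 e), ← Set.ncard_coe_finset]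
  congr 1
  ext n
  simp

end GF4

end Cfsg.Agent.U62Sub
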