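import Cfsg.Agent.Lib.U62Sub.Mono
import Mathlib.LinearAlgebra.Dimension.Finrank
import Mathlib.LinearAlgebra.Matrix.NonsingularInverse

/-!
# The diagonal subgroup, and elementary subgroups of order `243`

`GF4.exists_conj_diag`: a commutative subgroup of order `243` and exponent three is conjugate to
the diagonal subgroup, as its six characters on a basis of eigenvectors must be different.
-/

set_option autoImplicit false

namespace Cfsg.Agent.U62Sub

open Cfsg Matrix

variable {F : Type*} [Field F]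

theorem act_ne_zero (g : ↥(Cfsg.SU 6 F 2)) {v : Fin 6 → F} (hv : v ≠ 0) : g • v ≠ 0 := fun h =>
  hv (by rw [← inv_smul_smul g v, h, smul_def, Matrix.mulVec_zero])

theorem single_ne (j : Fin 6) : (Pi.single j 1 : Fin 6 → F) ≠ 0 := Pi.single_eq_zero_iff.not.2 one_ne_zero

/-- The diagonal elements. -/
def Diag : Subgroup ↥(Cfsg.SU 6 F 2) where
  carrier := {g | ∀ j : Fin 6, ∃ a : F, g • (Pi.single j 1 : Fin 6 → F) = a • Pi.single j 1}
  one_mem' j := ⟨1, by rw [one_smul, one_smul]⟩
  mul_mem' {g h} hg hh j := by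
    obtain ⟨a, ha⟩ := hg j
    obtain ⟨b, hb⟩ := hh j
    exact ⟨b * a, by rw [mul_smul, hb, act_smul, ha, smul_smul]⟩
  inv_mem' {g} hg j := by
    obtain ⟨a, ha⟩ := hg j
    have ha0 : a ≠ 0 := fun e => act_ne_zero g (single_ne (F := F) j) (by rw [ha, e, zero_smul])
    refine ⟨a⁻¹, ?_⟩
    rw [inv_smul_eq_iff, act_smul, ha, smul_smul, inv_mul_cancel₀ ha0, one_smul]

namespace GF4

variable (Φ : GF4 F)

theorem mono_one_mem (d : Fin 6 → F) (hd : ∀ j, d j ≠ 0) (hp : ∏ j, d j = 1) : Φ.mono 1 d hd hp ∈ Diag :=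
  fun j => ⟨d j, Φ.mono_single 1 d hd hp j⟩

theorem exists_diag {g : ↥(Cfsg.SU 6 F 2)} (hg : g ∈ Diag) :
    ∃ (d : Fin 6 → F) (hd : ∀ j, d j ≠ 0) (hp : ∏ j, d j = 1), g = Φ.mono 1 d hd hp := by
  have h : ∀ j, ∃ a : F, g • (Pi.single j 1 : Fin 6 → F) = a • Pi.single j 1 := hg
  choose a ha using h
  have ha0 : ∀ j, a j ≠ 0 := fun j e => act_ne_zero g (single_ne (F := F) j) (by rw [ha, e, zero_smul])
  obtain ⟨σ, d, hd, hp, rfl⟩ := Φ.exists_mono fun j => ⟨j, a j, ha0 j, ha j⟩
  have hσ : σ = 1 := Equiv.ext fun j => by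
    by_contra hne
    have := congrFun (ha j) (σ j)
    rw [Φ.mono_single] at this
    simp [show σ j ≠ j from hne, hd] at this
  subst hσ
  exact ⟨d, hd, hp, rfl⟩

include Φ in
theorem inv_sq {x : F} (hx : x ≠ 0) : x⁻¹ = x ^ 2 :=
  inv_eq_of_mul_eq_one_right (by linear_combination Φ.cube hx)

include Φ in
theorem sq_inj {x y : F} (h : x ^ 2 = y ^ 2) : x = y := by
  have : (x - y) * (x - y) = 0 := by linear_combination h + (y ^ 2 - x * y) * Φ.two
  exact sub_eq_zero.1 (mul_self_eq_zero.1 this)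

include Φ in
theorem card_diag (hn : Nat.card {x : F // x ≠ 0} = 3) : Nat.card ↥(Diag (F := F)) = 243 := by
  classical
  let ext : (Fin 5 → {x : F // x ≠ 0}) → Fin 6 → F := fun e => Fin.snoc (fun i => (e i).1) (∏ i, (e i).1)⁻¹
  have hne : ∀ e j, ext e j ≠ 0 := fun e j => by
    refine Fin.lastCases ?_ ?_ j
    · simp only [ext, Fin.snoc_last]
      exact inv_ne_zero (Finset.prod_ne_zero_iff.2 fun i _ => (e i).2)
    · intro i; simp only [ext, Fin.snoc_castSucc]; exact (e i).2
  have hp : ∀ e, ∏ j, ext e j = 1 := fun e => by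
    rw [Fin.prod_univ_castSucc]
    simp only [ext, Fin.snoc_last, Fin.snoc_castSucc]
    exact mul_inv_cancel₀ (Finset.prod_ne_zero_iff.2 fun i _ => (e i).2)
  let f : (Fin 5 → {x : F // x ≠ 0}) → ↥(Diag (F := F)) := fun e =>
    ⟨Φ.mono 1 (ext e) (hne e) (hp e), Φ.mono_one_mem _ _ _⟩
  have hf : Function.Bijective f := by
    refine ⟨fun e e' h => funext fun i => Subtype.ext ?_, fun g => ?_⟩
    · have := congrFun (congrArg (fun z : ↥(Diag (F := F)) => z.1 • (Pi.single i.castSucc 1 : Fin 6 → F)) h)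
        i.castSucc
      simpa [f, Φ.mono_single, ext] using this
    · obtain ⟨d, hd, hpd, hg⟩ := Φ.exists_diag g.2
      refine ⟨fun i => ⟨d i.castSucc, hd _⟩, Subtype.ext ?_⟩
      have : ext (fun i => ⟨d i.castSucc, hd _⟩) = d := funext fun j => by
        refine Fin.lastCases ?_ ?_ j
        · simp only [ext, Fin.snoc_last]
          rw [Fin.prod_univ_castSucc] at hpd
          exact inv_eq_of_mul_eq_one_right hpd
        · intro i; simp only [ext, Fin.snoc_castSucc]
      rw [hg]
      refine act_ext fun j => ?_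
      simp only [f, Φ.mono_single, this]
  rw [← Nat.card_congr (Equiv.ofBijective f hf), Nat.card_fun, hn, Nat.card_fin]
  norm_num

include Φ in
/-- An element normalising the diagonal subgroup is monomial. -/
theorem mono_of_normalizes {g : ↥(Cfsg.SU 6 F 2)} (h : ∀ d ∈ Diag, g⁻¹ * d * g ∈ Diag) :
    ∃ (σ : Equiv.Perm (Fin 6)) (d : Fin 6 → F) (hd : ∀ j, d j ≠ 0) (hp : ∏ j, d j = 1),
      g = Φ.mono σ d hd hp := by
  refine Φ.exists_mono fun j => ?_
  set v := g • (Pi.single j 1 : Fin 6 → F) with hv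
  have hv0 : v ≠ 0 := act_ne_zero g (single_ne j)
  have heig : ∀ d ∈ Diag, ∃ a : F, d • v = a • v := fun d hd => by
    obtain ⟨a, ha⟩ := h d hd j
    refine ⟨a, ?_⟩
    rw [mul_smul, mul_smul, inv_smul_eq_iff, act_smul, ← hv] at ha
    exact ha
  obtain ⟨r, hr⟩ : ∃ r, v r ≠ 0 := Function.ne_iff.1 hv0
  refine ⟨r, v r, hr, funext fun s => ?_⟩
  by_cases hs : s = r
  · subst hs; simp
  by_contra hne
  have hvs : v s ≠ 0 := fun e => hne (by simp [e, hs])
  let d : Fin 6 → F := fun i => if i = r then Φ.w else if i = s then Φ.w ^ 2 else 1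
  have hd : ∀ i, d i ≠ 0 := fun i => by
    simp only [d]; split_ifs <;> simp [Φ.w_ne_zero]
  have hp : ∏ i, d i = 1 := by
    rw [Fintype.prod_eq_mul r s (Ne.symm hs) fun i hi => by simp [d, hi.1, hi.2]]
    simp only [d, if_pos, if_neg hs]
    linear_combination Φ.cube Φ.w_ne_zero
  obtain ⟨a, ha⟩ := heig _ (Φ.mono_one_mem d hd hp)
  have e1 : d r * v r = a * v r := by
    have := congrFun ha r
    rw [show r = (1 : Equiv.Perm (Fin 6)) r from rfl, Φ.mono_apply] at this
    exact this
  have e2 : d s * v s = a * v s := by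
    have := congrFun ha s
    rw [show s = (1 : Equiv.Perm (Fin 6)) s from rfl, Φ.mono_apply] at this
    exact this
  have f1 := mul_right_cancel₀ hr e1
  have f2 := mul_right_cancel₀ hvs e2
  simp only [d, if_pos, if_neg hs] at f1 f2
  exact Φ.w_ne_one (mul_left_cancel₀ Φ.w_ne_zero (by rw [mul_one, ← sq]; exact f2.trans f1.symm))

include Φ in
theorem span_eigen (E : Subgroup ↥(Cfsg.SU 6 F 2)) (hc : ∀ a ∈ E, ∀ b ∈ E, a * b = b * a)
    (h3 : ∀ a ∈ E, a ^ 3 = 1) : ∀ L : List ↥(Cfsg.SU 6 F 2), (∀ a ∈ L, a ∈ E) →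
      Submodule.span F {v : Fin 6 → F | ∀ a ∈ L, ∃ μ : F, a • v = μ • v} = ⊤
  | [], _ => by
    rw [show {v : Fin 6 → F | ∀ a ∈ ([] : List ↥(Cfsg.SU 6 F 2)), ∃ μ : F, a • v = μ • v} = Set.univ from
      Set.eq_univ_of_forall fun v a ha => absurd ha List.not_mem_nil, Submodule.span_univ]
  | a :: L, hL => by
    have ih := span_eigen E hc h3 L fun b hb => hL b (List.mem_cons_of_mem _ hb)
    rw [eq_top_iff, ← ih, Submodule.span_le]
    intro t ht
    have haE := hL a List.mem_cons_self
    let P : F → Fin 6 → F := fun μ => t + μ ^ 2 • (a • t) + μ • (a • a • t)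
    have hmem : ∀ μ : F, μ ^ 3 = 1 → P μ ∈ Submodule.span F {v : Fin 6 → F | ∀ b ∈ a :: L, ∃ ν : F, b • v = ν • v} := by
      intro μ hμ
      refine Submodule.subset_span fun b hb => ?_
      rcases List.mem_cons.1 hb with rfl | hb
      · refine ⟨μ, ?_⟩
        have e3 : b • b • b • t = t := by
          rw [← mul_smul, ← mul_smul, ← show b ^ 3 = b * b * b by rw [pow_succ, pow_two], h3 b haE, one_smul]
        simp only [P, act_add, act_smul, e3]
        ext i
        simp only [Pi.add_apply, Pi.smul_apply, smul_eq_mul]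
        linear_combination (-((b • t) i)) * hμ
      · obtain ⟨ν, hν⟩ := ht b hb
        refine ⟨ν, ?_⟩
        have hba : ∀ x : Fin 6 → F, b • a • x = a • b • x := fun x => by
          rw [← mul_smul, hc b (hL b (List.mem_cons_of_mem _ hb)) a haE, mul_smul]
        simp only [P, act_add, act_smul, hba, hν, smul_add]
        rw [smul_comm ν (μ ^ 2) (a • t), smul_comm ν μ (a • a • t)]
    have hw3 : Φ.w ^ 3 = 1 := Φ.cube Φ.w_ne_zero
    have e : t = P 1 + P Φ.w + P (Φ.w ^ 2) := by
      ext i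
      simp only [P, Pi.add_apply, Pi.smul_apply, smul_eq_mul]
      linear_combination (-(t i)) * Φ.two - ((a • t) i + (a • a • t) i) * Φ.hw - (Φ.w * (a • t) i) * hw3
    rw [e]
    exact add_mem (add_mem (hmem 1 (one_pow 3)) (hmem _ hw3)) (hmem _ (by rw [← pow_mul, mul_comm, pow_mul, hw3, one_pow]))

theorem four_off : ∀ j k : Fin 6, j ≠ k → (Finset.univ.filter fun i => i ≠ j ∧ i ≠ k).card = 4 := by
  decide

include Φ in
theorem eq_of_pair {d d' : Fin 6 → F} {j k : Fin 6} (hjk : j ≠ k) (hd' : ∀ i, d' i ≠ 0)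
    (h : ∏ i, d i = ∏ i, d' i) (he : ∀ i, i ≠ j → i ≠ k → d i = d' i) (h1 : d j = d k) (h2 : d' j = d' k) :
    d = d' := by
  have key : ∀ f : Fin 6 → F, ∏ i, f i = f j * (f k * ∏ i ∈ (Finset.univ.erase j).erase k, f i) := fun f => by
    rw [Finset.mul_prod_erase _ f (Finset.mem_erase.2 ⟨hjk.symm, Finset.mem_univ k⟩),
      Finset.mul_prod_erase _ f (Finset.mem_univ j)]
  rw [key d, key d', Finset.prod_congr rfl (g := d') fun i hi => he i
    (Finset.mem_erase.1 (Finset.mem_erase.1 hi).2).1 (Finset.mem_erase.1 hi).1, ← h1, ← h2] at h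
  have hj : d j = d' j := Φ.sq_inj (mul_right_cancel₀
    (Finset.prod_ne_zero_iff.2 fun i (_ : i ∈ (Finset.univ.erase j).erase k) => hd' i) (by linear_combination h))
  funext i
  by_cases hij : i = j
  · exact hij ▸ hj
  by_cases hik : i = k
  · rw [hik, ← h1, ← h2, hj]
  · exact he i hij hik

include Φ in
/-- An elementary subgroup of order `243` is conjugate to the diagonal subgroup. -/
theorem exists_conj_diag (hn : Nat.card {x : F // x ≠ 0} = 3) [Finite F] (E : Subgroup ↥(Cfsg.SU 6 F 2))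
    (hc : ∀ a ∈ E, ∀ b ∈ E, a * b = b * a) (h3 : ∀ a ∈ E, a ^ 3 = 1) (hcard : Nat.card E = 243) :
    ∃ g : ↥(Cfsg.SU 6 F 2), E.map (MulAut.conj g).toMonoidHom = Diag := by
  classical
  obtain ⟨bs, hbs, hspan, hli⟩ := exists_linearIndependent F
    {v : Fin 6 → F | ∀ a ∈ ((E : Set ↥(Cfsg.SU 6 F 2)).toFinite.toFinset.toList), ∃ μ : F, a • v = μ • v}
  rw [Φ.span_eigen E hc h3 _ fun a ha => by simpa using ha] at hspan
  let B0 : Module.Basis bs F (Fin 6 → F) := Module.Basis.mk hli (by rw [Subtype.range_coe, hspan])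
  haveI : Fintype bs := Fintype.ofFinite _
  have h6 : Fintype.card bs = Fintype.card (Fin 6) := by
    rw [← Module.finrank_eq_card_basis B0, Module.finrank_fintype_fun_eq_card]
  let B : Module.Basis (Fin 6) F (Fin 6 → F) := B0.reindex (Fintype.equivOfCardEq h6)
  have heig : ∀ (a : E) (j : Fin 6), ∃ μ : F, a.1 • B j = μ • B j := fun a j => by
    have hmem : B j ∈ bs := by
      rw [Module.Basis.reindex_apply, Module.Basis.mk_apply]
      exact Subtype.mem _
    exact hbs hmem a.1 (by simp)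
  choose lam hlam using heig
  have hlam0 : ∀ a j, lam a j ≠ 0 := fun a j e =>
    act_ne_zero a.1 (B.ne_zero j) (by rw [hlam, e, zero_smul])
  let P : Matrix (Fin 6) (Fin 6) F := Matrix.of fun i j => B j i
  have hPd : P.det ≠ 0 := by
    have : IsUnit P := Matrix.linearIndependent_cols_iff_isUnit.1 B.linearIndependent
    exact (Matrix.isUnit_iff_isUnit_det P).1 this |>.ne_zero
  have hprod : ∀ a : E, ∏ j, lam a j = 1 := fun a => by
    have e : a.1.1.1 * P = P * Matrix.diagonal (lam a) := by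
      ext i j
      rw [Matrix.mul_diagonal]
      have := congrFun (hlam a j) i
      rw [smul_def, Pi.smul_apply, smul_eq_mul, mul_comm] at this
      exact this
    have := congrArg Matrix.det e
    rw [Matrix.det_mul, Matrix.det_mul, Matrix.det_diagonal, a.1.1.2, one_mul] at this
    exact (mul_eq_left₀ hPd).1 this.symm
  have hinj : Function.Injective lam := fun a a' h => by
    refine Subtype.ext (Subtype.ext (Subtype.ext (Matrix.toLin'.injective (B.ext fun j => ?_))))
    rw [Matrix.toLin'_apply, Matrix.toLin'_apply]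
    exact (hlam a j).trans ((congrArg (fun l => l j • B j) h).trans (hlam a' j).symm)
  have hdist : ∀ j k, j ≠ k → ∃ a, lam a j ≠ lam a k := by
    intro j k hjk
    by_contra hne
    push Not at hne
    let f : E → ({i : Fin 6 // i ≠ j ∧ i ≠ k} → {x : F // x ≠ 0}) := fun a i => ⟨lam a i.1, hlam0 a _⟩
    have hf : Function.Injective f := fun a a' h => hinj (Φ.eq_of_pair hjk (hlam0 a')
      ((hprod a).trans (hprod a').symm) (fun i h1 h2 => congrArg Subtype.val (congrFun h ⟨i, h1, h2⟩))
      (hne a) (hne a'))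
    have := Nat.card_le_card_of_injective f hf
    rw [hcard, Nat.card_fun, hn, Nat.card_eq_fintype_card, Fintype.card_subtype, four_off j k hjk] at this
    norm_num at this
  have horth : ∀ j k, j ≠ k → hermForm 6 F 2 (B j) (B k) = 0 := by
    intro j k hjk
    obtain ⟨a, ha⟩ := hdist j k hjk
    have := act_herm a.1 (B j) (B k)
    rw [hlam, hlam, herm_smul_left, herm_smul_right] at this
    by_contra h0
    have h1 : lam a j * lam a k ^ 2 = 1 := mul_right_cancel₀ h0 (by rw [one_mul, mul_assoc, this])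
    exact ha (by linear_combination (lam a k) * h1 - (lam a j) * Φ.cube (hlam0 a k))
  have hnorm : ∀ j, hermForm 6 F 2 (B j) (B j) = 1 := fun j => by
    refine (Φ.herm_self (B j)).resolve_left fun h0 => B.ne_zero j (funext fun i => ?_)
    have hs : ∀ x : Fin 6 → F, hermForm 6 F 2 (B j) x = 0 := fun x => by
      haveI := Φ.charTwo
      have hadd : ∀ u u' : Fin 6 → F, hermForm 6 F 2 (B j) (u + u') =
          hermForm 6 F 2 (B j) u + hermForm 6 F 2 (B j) u' := fun u u' => by
        simp only [hermForm, Pi.add_apply, CharTwo.add_sq, mul_add, Finset.sum_add_distrib]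
      have hx : x ∈ Submodule.span F (Set.range B) := by rw [B.span_eq]; trivial
      induction hx using Submodule.span_induction with
      | mem y hy =>
        obtain ⟨k, rfl⟩ := hy
        by_cases h : j = k
        · exact h ▸ h0
        · exact horth j k h
      | zero => simp [hermForm]
      | add u u' _ _ h1 h2 => rw [hadd, h1, h2, add_zero]
      | smul c u _ h1 => rw [herm_smul_right, h1, mul_zero]
    have := hs (Pi.single i 1)
    rwa [herm_single_right] at this
  let s : Fin 6 → F := fun j => if j = 0 then P.det⁻¹ else 1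
  have hs0 : ∀ j, s j ≠ 0 := fun j => by
    simp only [s]; split_ifs <;> simp [hPd]
  have hdet : (P * Matrix.diagonal s).det = 1 := by
    rw [Matrix.det_mul, Matrix.det_diagonal, Fintype.prod_eq_single 0 fun i hi => by simp [s, hi]]
    simp [s, hPd]
  let A : Matrix.SpecialLinearGroup (Fin 6) F := ⟨P * Matrix.diagonal s, hdet⟩
  have hcol : ∀ j, (fun i => A.1 i j) = s j • B j := fun j => funext fun i => by
    show (P * Matrix.diagonal s) i j = _
    rw [Matrix.mul_diagonal, Pi.smul_apply, smul_eq_mul, mul_comm]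
    rfl
  have hA : A ∈ Cfsg.SU 6 F 2 := Φ.mem_SU_of_cols fun j k => by
    rw [hcol, hcol, herm_smul_left, herm_smul_right]
    by_cases h : j = k
    · subst h
      rw [hnorm, if_pos rfl]
      linear_combination Φ.cube (hs0 j)
    · rw [horth j k h, if_neg h, mul_zero, mul_zero]
  let g : ↥(Cfsg.SU 6 F 2) := ⟨A, hA⟩
  have hg : ∀ j, g • (Pi.single j 1 : Fin 6 → F) = s j • B j := fun j => by
    rw [smul_def, Matrix.mulVec_single_one]
    exact hcol j
  refine ⟨g⁻¹, Subgroup.eq_of_le_of_card_ge ?_ ?_⟩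
  · rintro _ ⟨a, ha, rfl⟩ j
    refine ⟨lam ⟨a, ha⟩ j, ?_⟩
    show (g⁻¹ * a * g⁻¹⁻¹) • _ = _
    rw [inv_inv, mul_smul, mul_smul, hg, act_smul, hlam ⟨a, ha⟩, inv_smul_eq_iff, act_smul, hg, smul_comm]
  · rw [Φ.card_diag hn, ← hcard,
      Nat.card_congr (E.equivMapOfInjective (MulAut.conj g⁻¹).toMonoidHom (MulAut.conj g⁻¹).injective).toEquiv]

end GF4

end Cfsg.Agent.U62Sub
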