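import Cfsg.Agent.Lib.U62Sub.Orbit
import Cfsg.Agent.Lib.Transpos.SUThreeTwo
import Mathlib.FieldTheory.Finite.GaloisField

/-!
# `PSU(4, 3)` over any field with nine elements
-/

set_option autoImplicit false

namespace Cfsg.Agent.U62Sub

open Cfsg

theorem exists_equiv_P43 {F9 : Type} [Field F9] [Fintype F9] (hF9 : Fintype.card F9 = 9) :
    Nonempty (Cfsg.PSU 4 F9 3 ≃* P43) := by
  obtain ⟨f⟩ : Nonempty (F9 ≃+* U43Mult.K) :=
    ⟨FiniteField.ringEquivOfCardEq (K := F9) (K' := U43Mult.K) (hF9.trans (U43Mult.card_K.trans (by norm_num)).symm)⟩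
  let φ := Transpos.SU32.suMap f 4 3
  refine ⟨QuotientGroup.congr _ _ φ (le_antisymm (Subgroup.map_le_iff_le_comap.2 fun z hz => ?_) fun z hz => ?_)⟩
  · refine Subgroup.mem_center_iff.2 fun w => ?_
    obtain ⟨w, rfl⟩ := φ.surjective w
    show φ w * φ z = φ z * φ w
    rw [← map_mul, ← map_mul, Subgroup.mem_center_iff.1 hz w]
  · refine ⟨φ.symm z, Subgroup.mem_center_iff.2 fun w => φ.injective ?_, φ.apply_symm_apply z⟩
    rw [map_mul, map_mul, φ.apply_symm_apply, Subgroup.mem_center_iff.1 hz]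

end Cfsg.Agent.U62Sub
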