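import Cfsg.Agent.Lib.U62Sub.Code
import Cfsg.Agent.Lib.U62Sub.ModelData
import Cfsg.Agent.Lib.U43Mult.Cover

/-!
# Kernel checks for the six-dimensional model

The four matrices are unitary of determinant one and permute the `126` lines as the generators of
`SU(4, 3)` permute the first class of `126` points; their group is transitive on unit vectors.
-/

set_option autoImplicit false
set_option maxRecDepth 100000

namespace Cfsg.Agent.U62Sub

open Cfsg.Agent.Chev (Tab allLt allLt_iff)

/-- A point. -/
noncomputable def vP (x : ℕ) : ℕ := vTab.get x

/-- The product of a row and a vector. -/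
def rdot (r n : ℕ) : ℕ :=
  let t := fun j => mulC (dig r j) (dig n j)
  t 0 ^^^ t 1 ^^^ t 2 ^^^ t 3 ^^^ t 4 ^^^ t 5

/-- A generator applied to a vector. -/
noncomputable def mvC (k n : ℕ) : ℕ := pack fun i => rdot (rowTab.get (6 * k + i)) n

/-- An entry of a generator. -/
noncomputable def entC (k i j : ℕ) : ℕ := dig (rowTab.get (6 * k + i)) j

/-- The determinant by expansion along the first row; signs do not matter. -/
def detC : ℕ → (ℕ → ℕ → ℕ) → ℕ
  | 0, _ => 1
  | n + 1, f => (List.range (n + 1)).foldr
      (fun j s => mulC (f 0 j) (detC n fun a b => f (a + 1) (if b < j then b else b + 1)) ^^^ s) 0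

/-- The columns of a generator are orthonormal. -/
noncomputable def colsOK : Bool := allLt 4 fun k => allLt 6 fun i => allLt 6 fun j =>
  hC (mvC k (4 ^ i)) (mvC k (4 ^ j)) == if i = j then 1 else 0

theorem colsOK_true : colsOK = true := by decide +kernel

theorem det_checked : ∀ k < 4, detC 6 (entC k) = 1 := by decide +kernel

/-- The generators permute the lines as `SU(4, 3)` permutes the points. -/
noncomputable def permOK : Bool := allLt 4 fun k => allLt 126 fun x =>
  let y := U43Mult.pw 0 k x / 4
  decide (y < 126) && (mvC k (vP x) == sC 1 (vP y) || mvC k (vP x) == sC 2 (vP y) || mvC k (vP x) == sC 3 (vP y))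

theorem permOK_true : permOK = true := by decide +kernel

/-- The lines lie in the set of `378` vectors. -/
noncomputable def insideOK : Bool := allLt 126 fun x =>
  inS 1 (sC 1 (vP x)) && inS 1 (sC 2 (vP x)) && inS 1 (sC 3 (vP x))

theorem insideOK_true : insideOK = true := by decide +kernel

/-- The lines cover the set. -/
noncomputable def coverOK : Bool := allLt 4096 fun n =>
  !inS 1 n || (List.range 126).any fun x => sC 1 (vP x) == n || sC 2 (vP x) == n || sC 3 (vP x) == n

theorem coverOK_true : coverOK = true := by decide +kernel

theorem moves : wt (mvC 0 1) ≠ 1 := by decide +kernel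

/-- An orbit member. -/
noncomputable def oCode (j : ℕ) : ℕ := orbTab.get j % 4096

/-- The orbit certificate. -/
noncomputable def orbOK : Bool := allLt 672 fun j =>
  if j = 0 then oCode 0 == 1 else
    decide (orbTab.get j / 4096 % 1024 < j) && decide (orbTab.get j / 4194304 < 4) &&
      oCode j == mvC (orbTab.get j / 4194304) (oCode (orbTab.get j / 4096 % 1024))

theorem orbOK_true : orbOK = true := by decide +kernel

/-- The position of a unit vector. -/
noncomputable def idxC (n : ℕ) : ℕ := (idxTab.get (n / 64) >>> (14 * (n % 64))) &&& 16383

/-- The orbit covers the unit vectors. -/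
noncomputable def unitsOK : Bool := allLt 4096 fun n =>
  hC n n != 1 || (decide (idxC n / 4 < 672) && idxC n % 4 != 0 && sC (idxC n % 4) (oCode (idxC n / 4)) == n)

theorem unitsOK_true : unitsOK = true := by decide +kernel

end Cfsg.Agent.U62Sub
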