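import Cfsg.Agent.Lib.U62Sub.Stab
import Cfsg.Agent.Lib.U62Sub.Diag
import Cfsg.Agent.Lib.U62Sub.ModelChecks

/-!
# The four generators of the model, and facts about the centre

The coded matrices give elements of `SU(6, F)`; the central elements are the scalar ones.
-/

set_option autoImplicit false

namespace Cfsg.Agent.U62Sub

open Cfsg Matrix
open Cfsg.Agent.Chev (allLt allLt_iff)

variable {F : Type*} [Field F]

theorem xor4 {a b : ℕ} (ha : a < 4) (hb : b < 4) : a ^^^ b < 4 := Nat.xor_lt_two_pow (n := 2) ha hb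

theorem rdot_lt (r n : ℕ) : rdot r n < 4 := by
  simp only [rdot]
  repeat apply xor4
  all_goals exact mulC_lt _ _

theorem foldr_lt {g : ℕ → ℕ} (hg : ∀ j, g j < 4) : ∀ L : List ℕ, L.foldr (fun j s => g j ^^^ s) 0 < 4
  | [] => by norm_num
  | _ :: L => xor4 (hg _) (foldr_lt hg L)

theorem detC_lt : ∀ (n : ℕ) (f : ℕ → ℕ → ℕ), detC n f < 4
  | 0, _ => by norm_num [detC]
  | n + 1, f => foldr_lt (fun _ => mulC_lt _ _) _

theorem entC_lt (k i j : ℕ) : entC k i j < 4 := dig_lt _ _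

theorem mvC_lt (k n : ℕ) : mvC k n < 4096 := pack_lt fun _ => rdot_lt _ _

theorem pow_lt (j : Fin 6) : 4 ^ (j : ℕ) < 4096 := by
  fin_cases j <;> norm_num

theorem dig_one : ∀ i : Fin 6, i ≠ 0 → dig 1 i = 0 := by decide

namespace GF4

variable (Φ : GF4 F)

theorem val_foldr {g : ℕ → ℕ} (hg : ∀ j, g j < 4) :
    ∀ L : List ℕ, Φ.val (L.foldr (fun j s => g j ^^^ s) 0) = (L.map fun j => Φ.val (g j)).sum
  | [] => by simp [val_zero]
  | j :: L => by
    rw [List.foldr_cons, Φ.val_add (hg j) (foldr_lt hg L), val_foldr hg L, List.map_cons, List.sum_cons]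

theorem det_detC : ∀ (n : ℕ) (f : ℕ → ℕ → ℕ), (∀ a b, f a b < 4) →
    (Matrix.of fun i j : Fin n => Φ.val (f i j)).det = Φ.val (detC n f)
  | 0, f, _ => by rw [Matrix.det_fin_zero, detC, val_one]
  | n + 1, f, hf => by
    rw [Matrix.det_succ_row_zero, detC, Φ.val_foldr fun j => mulC_lt _ _]
    have h2 : ∀ j : ℕ, (-1 : F) ^ j = 1 := fun j => by rw [Φ.neg_eq, one_pow]
    simp only [h2, one_mul]
    let g : ℕ → F := fun j => Φ.val (mulC (f 0 j) (detC n fun a b => f (a + 1) (if b < j then b else b + 1)))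
    show _ = ((List.range (n + 1)).map g).sum
    rw [show ((List.range (n + 1)).map g).sum = ∑ j ∈ Finset.range (n + 1), g j from rfl, Finset.sum_range]
    refine Finset.sum_congr rfl fun j _ => ?_
    simp only [g, Φ.val_mul (hf _ _) (detC_lt _ _)]
    rw [← det_detC n _ fun a b => hf _ _]
    congr 1
    congr 1
    ext a b
    simp only [Matrix.submatrix_apply, Matrix.of_apply, Fin.val_succ, Fin.succAbove, Fin.lt_def,
      Fin.val_castSucc]
    split <;> simp

/-- The matrix of a generator. -/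
noncomputable def genMat (k : ℕ) : Matrix (Fin 6) (Fin 6) F :=
  Matrix.of fun i j => Φ.val (entC k i j)

theorem genMat_mulVec (k n : ℕ) : Φ.genMat k *ᵥ Φ.vec n = Φ.vec (mvC k n) := funext fun i => by
  show ∑ j : Fin 6, Φ.val (entC k i j) * Φ.val (dig n j) = Φ.val (dig (mvC k n) i)
  rw [mvC, dig_pack (fun _ => rdot_lt _ _), rdot, Fin.sum_univ_six]
  simp only
  repeat rw [Φ.val_add]
  all_goals first
    | (simp only [Φ.val_mul (dig_lt _ _) (dig_lt _ _), entC]; rfl)
    | exact mulC_lt _ _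
    | (repeat apply xor4) <;> exact mulC_lt _ _

/-- A generator of the model. -/
noncomputable def gen (k : Fin 4) : ↥(Cfsg.SU 6 F 2) :=
  ⟨⟨Φ.genMat k, by
      rw [genMat, Φ.det_detC 6 _ (entC_lt k), det_checked k k.2, val_one]⟩,
    Φ.mem_SU_of_cols fun i j => by
      have hcol : ∀ j : Fin 6, (fun r => Φ.genMat k r j) = Φ.vec (mvC k (4 ^ (j : ℕ))) := fun j => by
        rw [← Φ.genMat_mulVec, Φ.vec_pow, Matrix.mulVec_single_one]
        rfl
      show hermForm 6 F 2 (fun r => Φ.genMat k r i) (fun r => Φ.genMat k r j) = _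
      rw [hcol, hcol, Φ.herm_vec]
      have h := allLt_iff.1 (allLt_iff.1 (allLt_iff.1 colsOK_true k k.2) i i.2) j j.2
      rw [beq_iff_eq] at h
      rw [h]
      by_cases e : i = j
      · simp [e, val_one]
      · simp [e, Fin.val_ne_of_ne e, val_zero]⟩

theorem gen_vec (k : Fin 4) (n : ℕ) : Φ.gen k • Φ.vec n = Φ.vec (mvC k n) := Φ.genMat_mulVec k n

include Φ in
theorem supp_single_card (j : Fin 6) : (supp (Pi.single j 1 : Fin 6 → F)).card = 1 := by
  rw [← Φ.vec_pow, Φ.card_supp_vec]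
  fin_cases j <;> decide

/-- An element acting by one scalar is central. -/
theorem mem_center_of_scalar {g : ↥(Cfsg.SU 6 F 2)} (a : F)
    (h : ∀ j, g • (Pi.single j 1 : Fin 6 → F) = a • Pi.single j 1) :
    g ∈ Subgroup.center ↥(Cfsg.SU 6 F 2) := by
  have e : g.1.1 = a • (1 : Matrix (Fin 6) (Fin 6) F) := by
    ext i j
    have := congrFun (h j) i
    rw [smul_def, Matrix.mulVec_single_one] at this
    rw [Matrix.smul_apply, Matrix.one_apply, smul_eq_mul]
    show g.1.1 i j = _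
    rw [show g.1.1 i j = _ from this]
    by_cases hij : i = j
    · subst hij; simp
    · simp [hij]
  refine Subgroup.mem_center_iff.2 fun x => Subtype.ext (Subtype.ext ?_)
  show x.1.1 * g.1.1 = g.1.1 * x.1.1
  rw [e, Matrix.mul_smul, Matrix.smul_mul, Matrix.mul_one, Matrix.one_mul]

include Φ in
theorem monomial_of_center {g : ↥(Cfsg.SU 6 F 2)} (hg : g ∈ Subgroup.center ↥(Cfsg.SU 6 F 2)) :
    ∃ (σ : Equiv.Perm (Fin 6)) (d : Fin 6 → F) (hd : ∀ j, d j ≠ 0) (hp : ∏ j, d j = 1),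
      g = Φ.mono σ d hd hp :=
  Φ.mono_of_normalizes fun d hd => by
    rw [mul_assoc, Subgroup.mem_center_iff.1 hg d, inv_mul_cancel_left]
    exact hd

theorem mono_mem_M {c : ℕ} (hc : c ∈ [1, 2, 3]) (σ : Equiv.Perm (Fin 6)) (d : Fin 6 → F) (hd : ∀ j, d j ≠ 0)
    (hp : ∏ j, d j = 1) : Φ.mono σ d hd hp ∈ Φ.M c :=
  Φ.mem_M fun v hv => by
    rw [Φ.mem_S_iff hc] at hv ⊢
    rwa [Φ.supp_mono, Φ.prod_mono]

theorem center_le_M {c : ℕ} (hc : c ∈ [1, 2, 3]) : Subgroup.center ↥(Cfsg.SU 6 F 2) ≤ Φ.M c := fun g hg => by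
  obtain ⟨σ, d, hd, hp, rfl⟩ := Φ.monomial_of_center hg
  exact Φ.mono_mem_M hc σ d hd hp

include Φ in
theorem prod_const {a : F} (ha : a ≠ 0) : ∏ _j : Fin 6, a = 1 := by
  rw [Finset.prod_const, Finset.card_univ, Fintype.card_fin,
    show a ^ 6 = (a ^ 3) ^ 2 by ring, Φ.cube ha, one_pow]

/-- The scalar element. -/
def scal {a : F} (ha : a ≠ 0) : ↥(Cfsg.SU 6 F 2) :=
  Φ.mono 1 (fun _ => a) (fun _ => ha) (Φ.prod_const ha)

theorem scal_mem {a : F} (ha : a ≠ 0) : Φ.scal ha ∈ Subgroup.center ↥(Cfsg.SU 6 F 2) :=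
  mem_center_of_scalar a fun j => Φ.mono_single 1 _ _ _ j

theorem scal_smul {a : F} (ha : a ≠ 0) (v : Fin 6 → F) : Φ.scal ha • v = a • v :=
  funext fun j => Φ.mono_apply 1 (fun _ => a) (fun _ => ha) (Φ.prod_const ha) v j

include Φ in
theorem card_field [Fintype F] : Fintype.card F = 4 := by
  have e : Function.Bijective fun i : Fin 4 => Φ.val i := by
    refine ⟨fun i j h => Fin.ext (Φ.val_inj i.2 j.2 h), fun x => ?_⟩
    obtain ⟨a, ha, rfl⟩ := Φ.val_surj x
    exact ⟨⟨a, ha⟩, rfl⟩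
  rw [← Fintype.card_of_bijective e, Fintype.card_fin]

include Φ in
theorem card_center : Nat.card (Subgroup.center ↥(Cfsg.SU 6 F 2)) = 3 := by
  haveI := Φ.finite_field
  haveI := Fintype.ofFinite F
  rw [Forms.card_center_SU (F := F) (q := 2) (by rw [Φ.card_field]; rfl) (n := 6) (by norm_num)]
  rfl

end GF4

end Cfsg.Agent.U62Sub
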