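import Cfsg.Agent.Lib.U62Sub.Gens

/-!
# The model of `3.PSU(4,3)` in `SU(6, 2)`

The pairs of an element of `SU(4, 3)` and an element of `SU(6, F)` moving the `126` points and lines
alike form a group, onto on the first side and scalar over the centre; so `PSU(4, 3)` embeds
modulo scalars. Its preimage preserves the set `S 1` and is transitive on unit vectors.
-/

set_option autoImplicit false

namespace Cfsg.Agent.U62Sub

open Cfsg Matrix
open Cfsg.Agent.Chev (allLt allLt_iff)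

variable {F : Type*} [Field F]

/-- `PSU(4, 3)` over the explicit field. -/
abbrev P43 : Type := Cfsg.PSU 4 U43Mult.K 3

theorem card_P43 : Nat.card P43 = 3265920 := by
  have h := Forms.card_PSU_mul (F := U43Mult.K) (q := 3) U43Mult.card_K (n := 4) (by norm_num)
  rw [Forms.card_GU U43Mult.card_K] at h
  simp only [Finset.prod_range_succ, Finset.prod_range_zero] at h
  norm_num [Nat.even_iff] at h
  show Nat.card (Cfsg.PSU 4 U43Mult.K 3) = _
  omega

theorem simple_P43 : IsSimpleGroup P43 :=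
  ClassicalSimple.PSU_isSimpleGroup U43Mult.card_K (by norm_num) (by norm_num)

theorem center_P43 : Subgroup.center P43 = ⊥ := by
  haveI := simple_P43
  rcases IsSimpleGroup.eq_bot_or_eq_top_of_normal (Subgroup.center P43) inferInstance with h | h
  · exact h
  exfalso
  haveI : IsMulCommutative P43 := ⟨⟨fun a b => by
    have ha : a ∈ Subgroup.center P43 := h ▸ Subgroup.mem_top a
    exact (Subgroup.mem_center_iff.1 ha b).symm⟩⟩
  letI : CommGroup P43 := { (inferInstance : Group P43) with mul_comm := fun a b => IsMulCommutative.is_comm.comm a b }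
  haveI : Finite P43 := Nat.finite_of_card_ne_zero (by rw [card_P43]; norm_num)
  have := IsSimpleGroup.prime_card (α := P43)
  rw [card_P43] at this
  norm_num at this

/-- The properties of a triple cover of `PSU(4, 3)` inside `SU(6, F)` containing the centre. -/
structure IsCover (H : Subgroup ↥(Cfsg.SU 6 F 2)) : Prop where
  center_le : Subgroup.center ↥(Cfsg.SU 6 F 2) ≤ H
  card_center : Nat.card (Subgroup.center H) = 3
  iso : Nonempty (H ⧸ Subgroup.center H ≃* P43)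

theorem IsCover.card {H : Subgroup ↥(Cfsg.SU 6 F 2)} (h : IsCover H) : Nat.card H = 9797760 := by
  obtain ⟨e⟩ := h.iso
  rw [Subgroup.card_eq_card_quotient_mul_card_subgroup (Subgroup.center H), h.card_center,
    Nat.card_congr e.toEquiv, card_P43]

/-- The transitivity on unit vectors. -/
def TransUnits (H : Subgroup ↥(Cfsg.SU 6 F 2)) : Prop :=
  ∀ v ∈ GF4.units6 (F := F), ∃ h ∈ H, h • (Pi.single 0 1 : Fin 6 → F) = v

theorem one_le_vP_wt : ∀ x < 126, vP x < 4096 := by decide +kernel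

namespace GF4

variable (Φ : GF4 F)

/-- The relation of moving points and lines alike. -/
def Alike (p : U43Mult.G × ↥(Cfsg.SU 6 F 2)) : Prop :=
  ∀ x : U43Mult.data.P (0 : Fin 2), ∃ (y : U43Mult.data.P (0 : Fin 2)) (a : F), a ≠ 0 ∧
    U43Mult.data.act 0 p.1 x y ∧ p.2 • Φ.vec (vP x.val) = a • Φ.vec (vP y.val)

theorem alike_one : Φ.Alike 1 := fun x =>
  ⟨x, 1, one_ne_zero, (U43Mult.good.act_center 0 1 (one_mem _) x x).2 rfl, by rw [Prod.snd_one, one_smul, one_smul]⟩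

theorem alike_mul {p q : U43Mult.G × ↥(Cfsg.SU 6 F 2)} (hp : Φ.Alike p) (hq : Φ.Alike q) :
    Φ.Alike (p * q) := fun x => by
  obtain ⟨y, a, ha, hxy, e⟩ := hq x
  obtain ⟨z, b, hb, hyz, e'⟩ := hp y
  refine ⟨z, a * b, mul_ne_zero ha hb, U43Mult.good.act_mul 0 _ _ _ _ _ hxy hyz, ?_⟩
  rw [Prod.snd_mul, mul_smul, e, act_smul, e', smul_smul]

theorem alike_pow {p : U43Mult.G × ↥(Cfsg.SU 6 F 2)} (hp : Φ.Alike p) : ∀ n : ℕ, Φ.Alike (p ^ n)
  | 0 => by rw [pow_zero]; exact Φ.alike_one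
  | n + 1 => by rw [pow_succ]; exact Φ.alike_mul (alike_pow hp n) hp

/-- The group of alike pairs. -/
def Rel : Subgroup (U43Mult.G × ↥(Cfsg.SU 6 F 2)) where
  carrier := {p | Φ.Alike p}
  one_mem' := Φ.alike_one
  mul_mem' := Φ.alike_mul
  inv_mem' {p} hp := by
    haveI := Φ.finite_field
    obtain ⟨n, hn⟩ := (isOfFinOrder_of_finite p).mem_powers_iff_mem_zpowers.2
      (Subgroup.inv_mem _ (Subgroup.mem_zpowers p))
    exact hn ▸ Φ.alike_pow hp n

theorem gen_mem_Rel (k : Fin 4) : (U43Mult.el (Fin.castLE (by norm_num) k), Φ.gen k) ∈ Φ.Rel := fun x => by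
  have h := allLt_iff.1 (allLt_iff.1 permOK_true k k.2) x.val x.2
  simp only [Bool.and_eq_true, decide_eq_true_eq, Bool.or_eq_true, beq_iff_eq] at h
  obtain ⟨hy, he⟩ := h
  have hk : ((Fin.castLE (by norm_num) k : Fin 8) : ℕ) = k.val := rfl
  have hv : (U43Mult.permFun (Fin.castLE (by norm_num) k) 0 x).val = U43Mult.pw 0 k.val x.val / 4 :=
    Nat.mod_eq_of_lt (by rw [hk]; exact hy)
  have hact := (U43Mult.lift_facts (Fin.castLE (by norm_num) k) 0 x).1
  refine ⟨U43Mult.permFun (Fin.castLE (by norm_num) k) 0 x, ?_⟩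
  show ∃ a : F, a ≠ 0 ∧ _ ∧ Φ.gen k • _ = _
  rw [Φ.gen_vec, hv]
  rcases he with (he | he) | he <;> rw [he, Φ.vec_sC (by norm_num)]
  · exact ⟨_, by rw [val_one]; exact one_ne_zero, hact, rfl⟩
  · exact ⟨Φ.val 2, Φ.w_ne_zero, hact, rfl⟩
  · exact ⟨Φ.val 3, pow_ne_zero 2 Φ.w_ne_zero, hact, rfl⟩

theorem exists_alike (g : U43Mult.G) : ∃ A, (g, A) ∈ Φ.Rel := by
  have h : Φ.Rel.map (MonoidHom.fst _ _) = ⊤ := by
    rw [eq_top_iff, ← U43Mult.closure_gens, Subgroup.closure_le]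
    rintro _ ⟨i, rfl⟩
    exact ⟨_, Φ.gen_mem_Rel i, rfl⟩
  obtain ⟨⟨g', A⟩, hA, rfl⟩ := (h ▸ Subgroup.mem_top g : g ∈ Φ.Rel.map (MonoidHom.fst _ _))
  exact ⟨A, hA⟩

theorem line_cover {n : ℕ} (hn : n < 4096) (h : inS 1 n = true) :
    ∃ x < 126, ∃ s < 4, Φ.vec n = Φ.val s • Φ.vec (vP x) := by
  have h1 := allLt_iff.1 coverOK_true n hn
  rw [Bool.or_eq_true, Bool.not_eq_true', List.any_eq_true] at h1
  obtain ⟨x, hx, he⟩ := h1.resolve_left (by simp [h])
  simp only [Bool.or_eq_true, beq_iff_eq] at he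
  rcases he with (he | he) | he <;> rw [← he] <;>
    exact ⟨x, List.mem_range.1 hx, _, by norm_num, Φ.vec_sC (by norm_num) _⟩

theorem alike_fix {g : U43Mult.G} (hg : g ∈ Subgroup.center U43Mult.G) {A : ↥(Cfsg.SU 6 F 2)}
    (h : (g, A) ∈ Φ.Rel) : ∀ v ∈ Φ.S 1, ∃ a : F, A • v = a • v := by
  rintro _ ⟨n, ⟨hn, hS⟩, rfl⟩
  obtain ⟨x, hx, s, -, e⟩ := Φ.line_cover hn hS
  obtain ⟨y, a, -, hxy, hA⟩ := h ⟨x, hx⟩
  rw [(U43Mult.good.act_center 0 g hg _ _).1 hxy] at hA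
  exact ⟨a, by rw [e, act_smul, hA, smul_comm]⟩

include Φ in
theorem eigen_pair {A : ↥(Cfsg.SU 6 F 2)} {u t : Fin 6 → F} {i j : Fin 6} (hu : u = Pi.single i 1)
    (ht : t = Pi.single j 1) (hij : i ≠ j)
    (h : ∀ b : F, b ≠ 0 → ∃ a : F, A • (u + b • t) = a • (u + b • t)) :
    ∃ a : F, A • u = a • u ∧ A • t = a • t := by
  obtain ⟨a, ha⟩ := h 1 one_ne_zero
  obtain ⟨b, hb⟩ := h Φ.w Φ.w_ne_zero
  obtain ⟨c, hc⟩ := h (Φ.w ^ 2) (pow_ne_zero 2 Φ.w_ne_zero)
  simp only [act_add, act_smul] at ha hb hc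
  have eui : u i = 1 := by simp [hu]
  have euj : u j = 0 := by simp [hu, hij.symm]
  have eti : t i = 0 := by simp [ht, hij]
  have etj : t j = 1 := by simp [ht]
  have ea : ∀ k, (A • u) k + (A • t) k = a * (u k + t k) := fun k => by simpa using congrFun ha k
  have eb : ∀ k, (A • u) k + Φ.w * (A • t) k = b * (u k + Φ.w * t k) := fun k => by simpa using congrFun hb k
  have ec : ∀ k, (A • u) k + Φ.w ^ 2 * (A • t) k = c * (u k + Φ.w ^ 2 * t k) := fun k => by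
    simpa using congrFun hc k
  have i1 := ea i; have i2 := eb i; have i3 := ec i
  have j1 := ea j; have j2 := eb j; have j3 := ec j
  simp only [eui, eti, euj, etj] at i1 i2 i3 j1 j2 j3
  have R1 : c = Φ.w * a + Φ.w ^ 2 * b := by
    linear_combination Φ.w * i1 + Φ.w ^ 2 * i2 - i3 - ((A • u) i + (Φ.w - 2) * (A • t) i) * Φ.hw +
      ((A • u) i - (Φ.w + 1) * (A • t) i) * Φ.two
  have R2 : c * Φ.w ^ 2 = Φ.w * a + Φ.w ^ 3 * b := by
    linear_combination Φ.w * j1 + Φ.w ^ 2 * j2 - j3 - ((A • u) j + (Φ.w - 2) * (A • t) j) * Φ.hw +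
      ((A • u) j - (Φ.w + 1) * (A • t) j) * Φ.two
  have hw1 : Φ.w - 1 ≠ 0 := sub_ne_zero.2 Φ.w_ne_one
  have hab : (Φ.w - 1) * (a - b) = 0 := by
    linear_combination Φ.w ^ 2 * R1 - R2 + (a + (Φ.w - 1) * b) * Φ.cube Φ.w_ne_zero
  obtain rfl : a = b := sub_eq_zero.1 ((mul_eq_zero.1 hab).resolve_left hw1)
  have key : ∀ k, (A • t) k = a * t k := fun k => by
    have : (Φ.w - 1) * ((A • t) k - a * t k) = 0 := by linear_combination eb k - ea k
    exact sub_eq_zero.1 ((mul_eq_zero.1 this).resolve_left hw1)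
  refine ⟨a, funext fun k => ?_, funext fun k => ?_⟩
  · show (A • u) k = a * u k
    linear_combination ea k - key k
  · exact key k

include Φ in
theorem pair_card {i j : Fin 6} (hij : i ≠ j) {b : F} (hb : b ≠ 0) :
    (supp ((Pi.single i 1 : Fin 6 → F) + b • Pi.single j 1)).card = 2 := by
  rw [show supp ((Pi.single i 1 : Fin 6 → F) + b • Pi.single j 1) = {i, j} from Finset.ext fun k => by
    rw [mem_supp]
    by_cases hi : k = i
    · subst hi; simp [hij]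
    · by_cases h : k = j
      · subst h; simp [hb, hi]
      · simp [hi, h], Finset.card_pair hij]

theorem scalar_of_fix {A : ↥(Cfsg.SU 6 F 2)} (h : ∀ v ∈ Φ.S 1, ∃ a : F, A • v = a • v) :
    A ∈ Subgroup.center ↥(Cfsg.SU 6 F 2) := by
  have hp : ∀ i j : Fin 6, i ≠ j → ∃ a : F, A • (Pi.single i 1 : Fin 6 → F) = a • Pi.single i 1 ∧
      A • (Pi.single j 1 : Fin 6 → F) = a • Pi.single j 1 := fun i j hij =>
    Φ.eigen_pair rfl rfl hij fun b hb => h _ ((Φ.mem_S_iff (by simp) _).2 (Or.inl (Φ.pair_card hij hb)))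
  obtain ⟨a, h0, h1⟩ := hp 0 1 (by decide)
  refine mem_center_of_scalar a fun j => ?_
  by_cases hj : j = 0
  · exact hj ▸ h0
  obtain ⟨b, hb0, hbj⟩ := hp 0 j (Ne.symm hj)
  have : a = b := by simpa using congrFun (h0.symm.trans hb0) 0
  exact this ▸ hbj

/-- The projective space group. -/
abbrev Q6 (F : Type*) [Field F] : Type _ := ↥(Cfsg.SU 6 F 2) ⧸ Subgroup.center ↥(Cfsg.SU 6 F 2)

theorem alike_unique {g : U43Mult.G} {A B : ↥(Cfsg.SU 6 F 2)} (hA : (g, A) ∈ Φ.Rel) (hB : (g, B) ∈ Φ.Rel) :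
    (QuotientGroup.mk A : Q6 F) = QuotientGroup.mk B := by
  refine QuotientGroup.eq.2 (Φ.scalar_of_fix (Φ.alike_fix (one_mem _) ?_))
  have := Φ.Rel.mul_mem (Φ.Rel.inv_mem hA) hB
  rwa [Prod.inv_mk, Prod.mk_mul_mk, inv_mul_cancel] at this

theorem rel_mul {g h : U43Mult.G} {A B : ↥(Cfsg.SU 6 F 2)} (hA : (g, A) ∈ Φ.Rel) (hB : (h, B) ∈ Φ.Rel) :
    (g * h, A * B) ∈ Φ.Rel := by
  have := Φ.Rel.mul_mem hA hB
  rwa [Prod.mk_mul_mk] at this

/-- A partner of an element. -/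
noncomputable def liftA (g : U43Mult.G) : ↥(Cfsg.SU 6 F 2) := (Φ.exists_alike g).choose

theorem liftA_mem (g : U43Mult.G) : (g, Φ.liftA g) ∈ Φ.Rel := (Φ.exists_alike g).choose_spec

theorem psi_mul (g h : U43Mult.G) :
    (QuotientGroup.mk (Φ.liftA (g * h)) : Q6 F) =
      QuotientGroup.mk (Φ.liftA g) * QuotientGroup.mk (Φ.liftA h) :=
  Φ.alike_unique (Φ.liftA_mem (g * h)) (Φ.rel_mul (Φ.liftA_mem g) (Φ.liftA_mem h))

/-- The embedding of `SU(4, 3)` modulo scalars. -/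
noncomputable def psi : U43Mult.G →* Q6 F :=
  MonoidHom.mk' (fun g => QuotientGroup.mk (Φ.liftA g)) Φ.psi_mul

theorem psi_eq {g : U43Mult.G} {A : ↥(Cfsg.SU 6 F 2)} (h : (g, A) ∈ Φ.Rel) : Φ.psi g = QuotientGroup.mk A :=
  Φ.alike_unique (Φ.liftA_mem g) h

theorem center_le_ker : Subgroup.center U43Mult.G ≤ Φ.psi.ker := fun g hg => by
  obtain ⟨A, hA⟩ := Φ.exists_alike g
  rw [MonoidHom.mem_ker, Φ.psi_eq hA, QuotientGroup.eq_one_iff]
  exact Φ.scalar_of_fix (Φ.alike_fix hg hA)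

/-- The embedding of `PSU(4, 3)`. -/
noncomputable def psiP : P43 →* Q6 F := QuotientGroup.lift _ Φ.psi Φ.center_le_ker

theorem psiP_inj : Function.Injective Φ.psiP := by
  haveI := simple_P43
  rw [← MonoidHom.ker_eq_bot_iff]
  refine (IsSimpleGroup.eq_bot_or_eq_top_of_normal Φ.psiP.ker inferInstance).resolve_right fun h => ?_
  have h1 : Φ.psiP (QuotientGroup.mk (U43Mult.el (Fin.castLE (by norm_num) (0 : Fin 4)))) = 1 :=
    MonoidHom.mem_ker.1 (h ▸ Subgroup.mem_top _)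
  rw [psiP, QuotientGroup.lift_mk, Φ.psi_eq (Φ.gen_mem_Rel 0), QuotientGroup.eq_one_iff] at h1
  obtain ⟨σ, d, hd, hp, e⟩ := Φ.monomial_of_center h1
  refine moves ?_
  rw [← Φ.card_supp_vec, show mvC 0 1 = mvC ((0 : Fin 4) : ℕ) 1 from rfl, ← Φ.gen_vec, e, Φ.supp_mono,
    Φ.card_supp_vec]
  rfl

/-- The model. -/
noncomputable def K1 : Subgroup ↥(Cfsg.SU 6 F 2) :=
  Φ.psiP.range.comap (QuotientGroup.mk' (Subgroup.center ↥(Cfsg.SU 6 F 2)))

theorem center_le_K1 : Subgroup.center ↥(Cfsg.SU 6 F 2) ≤ Φ.K1 := fun z hz =>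
  Subgroup.mem_comap.2 (by rw [QuotientGroup.mk'_apply, (QuotientGroup.eq_one_iff z).2 hz]; exact one_mem _)

theorem K1_le : Φ.K1 ≤ Φ.M 1 := fun z hz => by
  obtain ⟨q, hq⟩ := hz
  obtain ⟨g, rfl⟩ := QuotientGroup.mk_surjective q
  rw [psiP, QuotientGroup.lift_mk] at hq
  obtain ⟨A, hA⟩ := Φ.exists_alike g
  rw [Φ.psi_eq hA] at hq
  have hz : A⁻¹ * z ∈ Φ.M 1 := Φ.center_le_M (by simp) (QuotientGroup.eq.1 hq)
  suffices hAM : A ∈ Φ.M 1 by simpa using mul_mem hAM hz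
  refine Φ.mem_M ?_
  rintro _ ⟨n, ⟨hn, hS⟩, rfl⟩
  obtain ⟨x, hx, s, hs, e⟩ := Φ.line_cover hn hS
  obtain ⟨y, a, ha, -, hAv⟩ := hA ⟨x, hx⟩
  obtain ⟨b, hb, rfl⟩ := Φ.val_surj a
  have hs0 : Φ.val s ≠ 0 := fun h => by
    rw [h, zero_smul, ← Φ.vec_zero] at e
    rw [Φ.vec_inj hn (by norm_num) e] at hS
    exact absurd hS (by decide)
  rw [e, act_smul]
  rw [show A • Φ.vec (vP x) = Φ.val b • Φ.vec (vP y.val) from hAv, smul_smul, ← Φ.val_mul hs hb,
    ← Φ.vec_sC (mulC_lt _ _), Φ.mem_S (sC_lt _ _)]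
  have h := allLt_iff.1 insideOK_true y.val y.2
  simp only [Bool.and_eq_true] at h
  have hm : mulC s b ≠ 0 := fun h0 => mul_ne_zero hs0 ha (by rw [← Φ.val_mul hs hb, h0, val_zero])
  have := mulC_lt s b
  interval_cases hc : mulC s b
  · exact absurd rfl hm
  exacts [h.1.1, h.1.2, h.2]

theorem mk_mem_range (k : Fin 4) : Φ.gen k ∈ Φ.K1 :=
  ⟨QuotientGroup.mk (U43Mult.el (Fin.castLE (by norm_num) k)), by
    rw [psiP, QuotientGroup.lift_mk, Φ.psi_eq (Φ.gen_mem_Rel k)]; rfl⟩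

theorem orb_mem : ∀ j < 672, ∃ h ∈ Φ.K1, h • (Pi.single 0 1 : Fin 6 → F) = Φ.vec (oCode j) := by
  intro j
  induction j using Nat.strong_induction_on with
  | _ j ih =>
  intro hj
  have h := allLt_iff.1 orbOK_true j hj
  by_cases h0 : j = 0
  · rw [if_pos h0, beq_iff_eq] at h
    subst h0
    exact ⟨1, one_mem _, by rw [one_smul, h, Φ.vec_one]⟩
  rw [if_neg h0] at h
  simp only [Bool.and_eq_true, decide_eq_true_eq, beq_iff_eq] at h
  obtain ⟨⟨hp, hk⟩, he⟩ := h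
  obtain ⟨g, hg, e⟩ := ih _ hp (by omega)
  refine ⟨Φ.gen ⟨_, hk⟩ * g, mul_mem (Φ.mk_mem_range _) hg, ?_⟩
  rw [mul_smul, e, Φ.gen_vec, he]

theorem trans_K1 : TransUnits Φ.K1 := fun v hv => by
  obtain ⟨n, hn, rfl⟩ := Φ.vec_surj v
  have h := allLt_iff.1 unitsOK_true n hn
  simp only [Bool.or_eq_true, Bool.and_eq_true, decide_eq_true_eq, bne_iff_ne, beq_iff_eq] at h
  obtain ⟨⟨hj, ha⟩, e⟩ := h.resolve_left fun h => h ((Φ.herm_vec_one n n).1 hv)
  obtain ⟨g, hg, eg⟩ := Φ.orb_mem _ hj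
  have hne : Φ.val (idxC n % 4) ≠ 0 := fun h => ha ((Φ.val_eq_zero (Nat.mod_lt _ (by norm_num))).1 h)
  refine ⟨Φ.scal hne * g, mul_mem (Φ.center_le_K1 (Φ.scal_mem hne)) hg, ?_⟩
  rw [mul_smul, eg, Φ.scal_smul, ← Φ.vec_sC (Nat.mod_lt _ (by norm_num)), e]

theorem isCover_K1 : IsCover Φ.K1 := by
  haveI := Φ.finite_field
  let Z := Subgroup.center ↥(Cfsg.SU 6 F 2)
  let R := Φ.psiP.range
  let e : P43 ≃* R := MonoidHom.ofInjective Φ.psiP_inj
  let f : Φ.K1 →* R := ((QuotientGroup.mk' Z).comp Φ.K1.subtype).codRestrict R fun z => z.2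
  have hf : Function.Surjective f := fun r => by
    obtain ⟨z, hz⟩ := QuotientGroup.mk'_surjective Z r.1
    exact ⟨⟨z, Subgroup.mem_comap.2 (hz.symm ▸ r.2)⟩, Subtype.ext hz⟩
  have hker : f.ker = Z.subgroupOf Φ.K1 := by
    ext z
    rw [MonoidHom.mem_ker, Subgroup.mem_subgroupOf, Subtype.ext_iff]
    show (QuotientGroup.mk (z : ↥(Cfsg.SU 6 F 2)) : Q6 F) = 1 ↔ _
    exact QuotientGroup.eq_one_iff _
  have hc : f.ker = Subgroup.center Φ.K1 := by
    refine le_antisymm (fun z hz => ?_) fun z hz => ?_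
    · rw [hker, Subgroup.mem_subgroupOf] at hz
      exact Subgroup.mem_center_iff.2 fun w => Subtype.ext (Subgroup.mem_center_iff.1 hz w)
    · rw [MonoidHom.mem_ker]
      have : e.symm (f z) ∈ Subgroup.center P43 := Subgroup.mem_center_iff.2 fun p => by
        obtain ⟨w, hw⟩ := hf (e p)
        apply e.injective
        rw [map_mul, map_mul, e.apply_symm_apply, ← hw, ← map_mul, ← map_mul,
          Subgroup.mem_center_iff.1 hz w]
      rw [center_P43, Subgroup.mem_bot, MulEquiv.map_eq_one_iff] at this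
      exact this
  refine ⟨Φ.center_le_K1, ?_, ⟨((QuotientGroup.quotientMulEquivOfEq hc.symm).trans
    (QuotientGroup.quotientKerEquivOfSurjective f hf)).trans e.symm⟩⟩
  rw [← hc, hker, Nat.card_congr (Subgroup.subgroupOfEquivOfLe Φ.center_le_K1).toEquiv, Φ.card_center]

end GF4

end Cfsg.Agent.U62Sub
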