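import Cfsg.Agent.Lib.U62Sub.Code
import Mathlib.Algebra.CharP.Two

/-!
# The natural action of `SU(6, F)`, monomial elements, and the classes of vectors

`GF4.mono` is the monomial element of a permutation and coefficients with product one; the classes
of `Code` are described by the support and the product of the coordinates, so these elements
preserve them.
-/

set_option autoImplicit false

namespace Cfsg.Agent.U62Sub

open Cfsg Matrix

variable {F : Type*} [Field F]

/-- The natural action. -/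
scoped instance act6 : MulAction ↥(Cfsg.SU 6 F 2) (Fin 6 → F) where
  smul g v := g.1.1 *ᵥ v
  one_smul v := Matrix.one_mulVec v
  mul_smul g h v := (Matrix.mulVec_mulVec v g.1.1 h.1.1).symm

theorem smul_def (g : ↥(Cfsg.SU 6 F 2)) (v : Fin 6 → F) : g • v = g.1.1 *ᵥ v := rfl

theorem act_add (g : ↥(Cfsg.SU 6 F 2)) (u v : Fin 6 → F) : g • (u + v) = g • u + g • v :=
  Matrix.mulVec_add _ _ _

theorem act_smul (g : ↥(Cfsg.SU 6 F 2)) (a : F) (v : Fin 6 → F) : g • (a • v) = a • (g • v) :=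
  Matrix.mulVec_smul _ _ _

theorem act_herm (g : ↥(Cfsg.SU 6 F 2)) (u v : Fin 6 → F) :
    hermForm 6 F 2 (g • u) (g • v) = hermForm 6 F 2 u v := g.2 u v

theorem act_ext {g h : ↥(Cfsg.SU 6 F 2)} (e : ∀ j, g • (Pi.single j 1 : Fin 6 → F) = h • Pi.single j 1) :
    g = h := by
  refine Subtype.ext (Subtype.ext (Matrix.ext fun i j => ?_))
  have := congrFun (e j) i
  simp only [smul_def, Matrix.mulVec_single_one] at this
  exact this

theorem herm_smul_left (a : F) (u v : Fin 6 → F) : hermForm 6 F 2 (a • u) v = a * hermForm 6 F 2 u v := by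
  simp only [hermForm, Finset.mul_sum, Pi.smul_apply, smul_eq_mul, mul_assoc]

theorem herm_smul_right (a : F) (u v : Fin 6 → F) :
    hermForm 6 F 2 u (a • v) = a ^ 2 * hermForm 6 F 2 u v := by
  simp only [hermForm, Finset.mul_sum, Pi.smul_apply, smul_eq_mul, mul_pow]
  exact Finset.sum_congr rfl fun i _ => by ring

theorem herm_single_right (u : Fin 6 → F) (j : Fin 6) : hermForm 6 F 2 u (Pi.single j 1) = u j := by
  simp [hermForm, Pi.single_apply, ite_pow]

/-- The support. -/
noncomputable def supp (v : Fin 6 → F) : Finset (Fin 6) :=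
  haveI := Classical.decEq F
  Finset.univ.filter fun i => v i ≠ 0

theorem mem_supp {v : Fin 6 → F} {i : Fin 6} : i ∈ supp v ↔ v i ≠ 0 := by simp [supp]

theorem single_of_supp {v : Fin 6 → F} (h : (supp v).card = 1) :
    ∃ i, v i ≠ 0 ∧ v = v i • Pi.single i 1 := by
  obtain ⟨i, hi⟩ := Finset.card_eq_one.1 h
  refine ⟨i, mem_supp.1 (hi ▸ Finset.mem_singleton_self i), funext fun k => ?_⟩
  by_cases hk : k = i
  · subst hk; simp
  · have : v k = 0 := by
      by_contra hne
      exact hk (Finset.mem_singleton.1 (hi ▸ mem_supp.2 hne))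
    simp [this, hk]

namespace GF4

variable (Φ : GF4 F)

include Φ in
theorem charTwo : CharP F 2 := CharTwo.of_one_ne_zero_of_two_eq_zero one_ne_zero Φ.two

include Φ in
theorem neg_eq (x : F) : -x = x := by linear_combination (-x) * Φ.two

include Φ in
theorem cube {x : F} (hx : x ≠ 0) : x ^ 3 = 1 := by
  rcases Φ.surj x with rfl | rfl | rfl | rfl
  · exact absurd rfl hx
  · ring
  · linear_combination (Φ.w - 1) * Φ.hw
  · linear_combination (Φ.w - 1) * (Φ.w ^ 3 + 1) * Φ.hw

theorem w_ne_zero : Φ.w ≠ 0 := fun e => by have := Φ.hw; rw [e] at this; simp at this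

theorem w_ne_one : Φ.w ≠ 1 := fun e =>
  one_ne_zero (α := F) (by have := Φ.hw; rw [e] at this; linear_combination this - Φ.two)

include Φ in
theorem herm_self (v : Fin 6 → F) : hermForm 6 F 2 v v = 0 ∨ hermForm 6 F 2 v v = 1 := by
  haveI := Φ.charTwo
  have hsq : hermForm 6 F 2 v v ^ 2 = hermForm 6 F 2 v v := by
    simp only [hermForm]
    rw [sum_pow_char 2]
    refine Finset.sum_congr rfl fun i _ => ?_
    by_cases h : v i = 0
    · simp [h]
    · linear_combination (v i ^ 3) * Φ.cube h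
  have : hermForm 6 F 2 v v * (hermForm 6 F 2 v v - 1) = 0 := by linear_combination hsq
  exact (mul_eq_zero.1 this).imp_right sub_eq_zero.1

include Φ in
theorem mem_SU_of_cols {A : Matrix.SpecialLinearGroup (Fin 6) F}
    (h : ∀ j k, hermForm 6 F 2 (fun i => A.1 i j) (fun i => A.1 i k) = if j = k then 1 else 0) :
    A ∈ Cfsg.SU 6 F 2 := by
  haveI := Φ.charTwo
  intro u v
  show hermForm 6 F 2 (A.1 *ᵥ u) (A.1 *ᵥ v) = hermForm 6 F 2 u v
  have key : hermForm 6 F 2 (A.1 *ᵥ u) (A.1 *ᵥ v) =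
      ∑ j, ∑ k, u j * v k ^ 2 * hermForm 6 F 2 (fun i => A.1 i j) (fun i => A.1 i k) := by
    have h1 : ∀ i, (A.1 *ᵥ u) i * (A.1 *ᵥ v) i ^ 2 = ∑ j, ∑ k, u j * v k ^ 2 * (A.1 i j * A.1 i k ^ 2) := fun i => by
      simp only [Matrix.mulVec, dotProduct, sum_pow_char 2, Finset.sum_mul_sum]
      exact Finset.sum_congr rfl fun j _ => Finset.sum_congr rfl fun k _ => by ring
    simp only [hermForm, Finset.mul_sum, h1]
    rw [Finset.sum_comm]
    exact Finset.sum_congr rfl fun j _ => Finset.sum_comm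
  rw [key]
  simp only [h, mul_ite, mul_one, mul_zero, Finset.sum_ite_eq, Finset.mem_univ, if_true]
  rfl

/-- The matrix of a monomial map. -/
def monoMat (σ : Equiv.Perm (Fin 6)) (d : Fin 6 → F) : Matrix (Fin 6) (Fin 6) F :=
  Matrix.of fun i j => if i = σ j then d j else 0

include Φ in
theorem det_monoMat (σ : Equiv.Perm (Fin 6)) (d : Fin 6 → F) : (monoMat σ d).det = ∏ j, d j := by
  have e : monoMat σ d = (Matrix.diagonal d).submatrix σ.symm id := by
    ext i j
    simp only [monoMat, Matrix.of_apply, Matrix.submatrix_apply, id, Matrix.diagonal_apply]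
    by_cases h : i = σ j
    · subst h; simp
    · rw [if_neg h, if_neg fun h' => h (by rw [← h']; simp)]
  rw [e, Matrix.det_permute, Matrix.det_diagonal]
  rcases Int.units_eq_one_or (Equiv.Perm.sign σ.symm) with h | h <;> simp [h, Φ.neg_eq]

/-- The monomial element of a permutation and coefficients with product one. -/
def mono (σ : Equiv.Perm (Fin 6)) (d : Fin 6 → F) (hd : ∀ j, d j ≠ 0) (hp : ∏ j, d j = 1) :
    ↥(Cfsg.SU 6 F 2) :=
  ⟨⟨monoMat σ d, (Φ.det_monoMat σ d).trans hp⟩, Φ.mem_SU_of_cols fun j k => by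
    simp only [monoMat, Matrix.of_apply, hermForm]
    by_cases h : j = k
    · subst h
      rw [if_pos rfl, Finset.sum_eq_single (σ j) (fun i _ hi => by simp [hi]) (by simp)]
      simp only [if_pos]
      linear_combination Φ.cube (hd j)
    · rw [if_neg h]
      refine Finset.sum_eq_zero fun i _ => ?_
      by_cases hi : i = σ j
      · have : i ≠ σ k := fun e => h (σ.injective (hi.symm.trans e))
        simp [this]
      · simp [hi]⟩

theorem mono_single (σ : Equiv.Perm (Fin 6)) (d : Fin 6 → F) (hd : ∀ j, d j ≠ 0) (hp : ∏ j, d j = 1)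
    (j : Fin 6) : Φ.mono σ d hd hp • (Pi.single j 1 : Fin 6 → F) = d j • Pi.single (σ j) 1 := by
  ext i
  rw [smul_def, Matrix.mulVec_single_one]
  show monoMat σ d i j = _
  by_cases h : i = σ j
  · subst h; simp [monoMat]
  · simp [monoMat, h]

theorem mono_apply (σ : Equiv.Perm (Fin 6)) (d : Fin 6 → F) (hd : ∀ j, d j ≠ 0) (hp : ∏ j, d j = 1)
    (v : Fin 6 → F) (j : Fin 6) : (Φ.mono σ d hd hp • v) (σ j) = d j * v j := by
  show (monoMat σ d *ᵥ v) (σ j) = _
  simp [monoMat, Matrix.mulVec, dotProduct, σ.injective.eq_iff]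

theorem supp_mono (σ : Equiv.Perm (Fin 6)) (d : Fin 6 → F) (hd : ∀ j, d j ≠ 0) (hp : ∏ j, d j = 1)
    (v : Fin 6 → F) : (supp (Φ.mono σ d hd hp • v)).card = (supp v).card := by
  refine (Finset.card_bij (fun j _ => σ j) (fun j hj => ?_) (fun a _ b _ e => σ.injective e) fun i hi => ?_).symm
  · rw [mem_supp, Φ.mono_apply]; exact mul_ne_zero (hd j) (mem_supp.1 hj)
  · refine ⟨σ.symm i, ?_, σ.apply_symm_apply i⟩
    rw [mem_supp] at hi ⊢
    rw [← σ.apply_symm_apply i, Φ.mono_apply] at hi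
    exact right_ne_zero_of_mul hi

theorem prod_mono (σ : Equiv.Perm (Fin 6)) (d : Fin 6 → F) (hd : ∀ j, d j ≠ 0) (hp : ∏ j, d j = 1)
    (v : Fin 6 → F) : ∏ i, (Φ.mono σ d hd hp • v) i = ∏ i, v i := by
  rw [← Equiv.prod_comp σ, Finset.prod_congr rfl fun j _ => Φ.mono_apply σ d hd hp v j,
    Finset.prod_mul_distrib, hp, one_mul]

theorem card_supp_vec (n : ℕ) : (supp (Φ.vec n)).card = wt n := by
  classical
  rw [supp, Finset.card_filter, Fin.sum_univ_six]
  have h : ∀ i : Fin 6, (if Φ.vec n i ≠ 0 then 1 else 0) = nz (dig n i) := fun i => by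
    show (if Φ.val (dig n i) ≠ 0 then 1 else 0) = _
    by_cases h0 : dig n i = 0
    · simp [nz, h0, val_zero]
    · simp [nz, h0, Φ.val_eq_zero (dig_lt n i)]
  simp only [h, wt]
  rfl

theorem prod_vec (n : ℕ) : ∏ i, Φ.vec n i = Φ.val (prodC n) := by
  simp only [Fin.prod_univ_six, prodC]
  repeat rw [Φ.val_mul]
  all_goals first
    | rfl
    | exact dig_lt _ _
    | exact mulC_lt _ _

theorem cls_zero (n : ℕ) : cls n = 0 ↔ wt n = 2 := by
  unfold cls
  by_cases h2 : wt n = 2
  · simp [h2]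
  · by_cases h4 : wt n = 4
    · simp [h4]
    · by_cases h6 : wt n = 6 <;> simp [h2, h4, h6]

theorem cls_six {c : ℕ} (hc : c ∈ [1, 2, 3]) (n : ℕ) : cls n = 1 + c ↔ wt n = 6 ∧ prodC n = c := by
  unfold cls
  simp only [List.mem_cons, List.not_mem_nil, or_false] at hc
  have hp : prodC n < 4 := mulC_lt _ _
  by_cases h2 : wt n = 2
  · simp only [h2, if_pos]; omega
  · by_cases h4 : wt n = 4
    · simp only [h4]; norm_num; omega
    · by_cases h6 : wt n = 6
      · simp [h6]
      · simp only [h2, h4, h6, if_false]; constructor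
        · omega
        · rintro ⟨h, -⟩; exact absurd h id

theorem mem_S_iff {c : ℕ} (hc : c ∈ [1, 2, 3]) (v : Fin 6 → F) :
    v ∈ Φ.S c ↔ (supp v).card = 2 ∨ ((supp v).card = 6 ∧ ∏ i, v i = Φ.val c) := by
  obtain ⟨n, hn, rfl⟩ := Φ.vec_surj v
  have hc4 : c < 4 := by fin_cases hc <;> norm_num
  rw [Φ.mem_S hn, Φ.card_supp_vec, Φ.prod_vec, inS, Bool.or_eq_true, beq_iff_eq, beq_iff_eq, cls_zero,
    cls_six hc]
  exact or_congr Iff.rfl (and_congr Iff.rfl ⟨fun h => by rw [h], fun h => Φ.val_inj (mulC_lt _ _) hc4 h⟩)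

theorem mem_Cl_zero (v : Fin 6 → F) : v ∈ Φ.Cl 0 ↔ (supp v).card = 2 := by
  obtain ⟨n, hn, rfl⟩ := Φ.vec_surj v
  rw [Φ.card_supp_vec, ← cls_zero]
  refine ⟨?_, fun h => ⟨n, ⟨hn, h⟩, rfl⟩⟩
  rintro ⟨m, ⟨hm, h⟩, e⟩
  rwa [← Φ.vec_inj hm hn e]

/-- A map sending coordinate lines to coordinate lines is monomial. -/
theorem exists_mono {g : ↥(Cfsg.SU 6 F 2)}
    (h : ∀ j, ∃ (i : Fin 6) (a : F), a ≠ 0 ∧ g • (Pi.single j 1 : Fin 6 → F) = a • Pi.single i 1) :
    ∃ (σ : Equiv.Perm (Fin 6)) (d : Fin 6 → F) (hd : ∀ j, d j ≠ 0) (hp : ∏ j, d j = 1),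
      g = Φ.mono σ d hd hp := by
  choose i a ha hg using h
  have hinj : Function.Injective i := fun j k e => by
    by_contra hne
    have := act_herm g (Pi.single j 1) (Pi.single k 1)
    rw [hg, hg, herm_smul_left, herm_smul_right, herm_single_right, herm_single_right, e,
      Pi.single_eq_same, Pi.single_eq_of_ne (Ne.symm hne)] at this
    simp [ha] at this
  obtain ⟨σ, hσ⟩ : ∃ σ : Equiv.Perm (Fin 6), ∀ j, σ j = i j :=
    ⟨Equiv.ofBijective i (Finite.injective_iff_bijective.1 hinj), fun _ => rfl⟩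
  have hmat : g.1.1 = monoMat σ a := by
    ext r j
    have := congrFun (hg j) r
    rw [smul_def, Matrix.mulVec_single_one] at this
    show g.1.1 r j = _
    rw [show g.1.1 r j = (a j • Pi.single (i j) (1 : F) : Fin 6 → F) r from this, monoMat, Matrix.of_apply, hσ]
    by_cases hr : r = i j
    · simp [hr]
    · simp [hr]
  have hp : ∏ j, a j = 1 := by
    rw [← Φ.det_monoMat σ, ← hmat]
    exact g.1.2
  exact ⟨σ, a, ha, hp, Subtype.ext (Subtype.ext hmat)⟩

end GF4

end Cfsg.Agent.U62Sub
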