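import Cfsg.Agent.Lib.U62Sub.Abstract

/-!
# A conjugate of a triple cover contains the even monomial elements
-/

set_option autoImplicit false

namespace Cfsg.Agent.U62Sub

open Cfsg Matrix

variable {F : Type*} [Field F]

namespace GF4

variable (Φ : GF4 F)

/-- `g` is monomial with permutation `σ`. -/
def IsMono (g : ↥(Cfsg.SU 6 F 2)) (σ : Equiv.Perm (Fin 6)) : Prop :=
  ∃ (d : Fin 6 → F) (hd : ∀ j, d j ≠ 0) (hp : ∏ j, d j = 1), g = Φ.mono σ d hd hp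

theorem isMono_unique {g : ↥(Cfsg.SU 6 F 2)} {σ τ : Equiv.Perm (Fin 6)} (h : Φ.IsMono g σ) (h' : Φ.IsMono g τ) :
    σ = τ := by
  obtain ⟨d, hd, hp, rfl⟩ := h
  obtain ⟨e, he, hq, h'⟩ := h'
  refine Equiv.ext fun j => ?_
  have := congrArg (fun x : ↥(Cfsg.SU 6 F 2) => (x • (Pi.single j 1 : Fin 6 → F)) (σ j)) h'
  simp only [Φ.mono_single, Pi.smul_apply, Pi.single_eq_same, smul_eq_mul, mul_one] at this
  by_contra hne
  simp [Pi.single_eq_of_ne hne, hd] at this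

theorem isMono_mul {g h : ↥(Cfsg.SU 6 F 2)} {σ τ : Equiv.Perm (Fin 6)} (hg : Φ.IsMono g σ) (hh : Φ.IsMono h τ) :
    Φ.IsMono (g * h) (σ * τ) := by
  obtain ⟨d, hd, hp, rfl⟩ := hg
  obtain ⟨e, he, hq, rfl⟩ := hh
  refine ⟨fun j => d (τ j) * e j, fun j => mul_ne_zero (hd _) (he j), ?_, Φ.mono_mul σ τ d e _ hd hp he hq _ _ fun _ => rfl⟩
  rw [Finset.prod_mul_distrib, Equiv.prod_comp τ d, hp, hq, one_mul]

theorem isMono_diag {g : ↥(Cfsg.SU 6 F 2)} (hg : g ∈ Diag) : Φ.IsMono g 1 := Φ.exists_diag hg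

theorem conj_diag {h : ↥(Cfsg.SU 6 F 2)} (hh : h ∈ Diag) (σ : Equiv.Perm (Fin 6)) :
    (Φ.permEl σ)⁻¹ * h * Φ.permEl σ ∈ Diag := fun r => by
  obtain ⟨a, ha⟩ := hh (σ r)
  have e : Φ.permEl σ • (Pi.single r 1 : Fin 6 → F) = Pi.single (σ r) 1 :=
    (Φ.mono_single σ (fun _ => 1) (fun _ => one_ne_zero) (by simp) r).trans (one_smul F _)
  exact ⟨a, by rw [mul_smul, mul_smul, e, ha, inv_smul_eq_iff, act_smul, e]⟩

theorem exists_conj_mono (K : Subgroup ↥(Cfsg.SU 6 F 2)) (hc : Nat.card (Subgroup.center K) = 3)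
    (hiso : Nonempty (K ⧸ Subgroup.center K ≃* P43)) :
    ∃ g : ↥(Cfsg.SU 6 F 2), ∀ σ ∈ alternatingGroup (Fin 6), ∀ (d : Fin 6 → F) (hd : ∀ j, d j ≠ 0)
      (hp : ∏ j, d j = 1), Φ.mono σ d hd hp ∈ K.map (MulAut.conj g).toMonoidHom := by
  haveI := Φ.finite_field
  classical
  have hI := Φ.isCover_Kc one_mem_list
  obtain ⟨e⟩ := hiso
  obtain ⟨e1⟩ := hI.iso
  let π : K →* Φ.Q1 := (e.trans e1.symm).toMonoidHom.comp (QuotientGroup.mk' _)
  have hsurj : Function.Surjective π := (e.trans e1.symm).surjective.comp (QuotientGroup.mk'_surjective _)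
  have hker : π.ker = Subgroup.center K := by
    ext x
    rw [MonoidHom.mem_ker]
    exact (e.trans e1.symm).map_eq_one_iff.trans (QuotientGroup.eq_one_iff x)
  let D0 := Diag.subgroupOf (Φ.Kc 1)
  let mk1 := QuotientGroup.mk' (Subgroup.center (Φ.Kc 1))
  let E0 : Subgroup K := (D0.map mk1).comap π
  have hE0 : ∀ x, x ∈ E0 → ∃ h ∈ Diag, Φ.Lft π x h := by
    intro x hx
    obtain ⟨u, hu, e⟩ := hx
    exact ⟨u.1, hu, u.2, e.symm⟩
  have hE0' : ∀ x h, h ∈ Diag → Φ.Lft π x h → x ∈ E0 := fun x h hh ⟨hk, e⟩ => ⟨⟨h, hk⟩, hh, e.symm⟩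
  have hcardK : Nat.card K = 9797760 := by
    rw [Subgroup.card_eq_card_quotient_mul_card_subgroup (Subgroup.center K), hc, Nat.card_congr e.toEquiv,
      card_P43]
  have hker1 : mk1.ker ≤ D0 := by
    rw [QuotientGroup.ker_mk', hI.center_eq Φ]
    exact fun z hz => Φ.center_le_Diag hz
  have hcardE : Nat.card E0 = 243 := by
    have h1 : E0.index = D0.index := by
      rw [Subgroup.index_comap_of_surjective _ hsurj,
        Subgroup.index_map_eq _ (QuotientGroup.mk'_surjective _) hker1]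
    have h2 := E0.index_mul_card
    have h3 := D0.index_mul_card
    have h4 : Nat.card D0 = 243 := by
      rw [Nat.card_congr (Subgroup.subgroupOfEquivOfLe (Φ.Diag_le_Kc one_mem_list)).toEquiv,
        Φ.card_diag Φ.card_ne_zero_elems]
    rw [h1, hcardK] at h2
    rw [h4, hI.card] at h3
    have : D0.index ≠ 0 := by intro h; rw [h] at h3; simp at h3
    exact Nat.eq_of_mul_eq_mul_left (Nat.pos_of_ne_zero this) (h2.trans h3.symm)
  let E := E0.map K.subtype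
  obtain ⟨g, hg⟩ := Φ.exists_conj_diag Φ.card_ne_zero_elems E
    (by
      rintro _ ⟨a, ha, rfl⟩ _ ⟨b, hb, rfl⟩
      obtain ⟨u, hu, hau⟩ := hE0 a ha
      obtain ⟨v, hv, hbv⟩ := hE0 b hb
      rw [← map_mul, ← map_mul, Φ.commute_diag hker hsurj hc hu hv a b hau hbv])
    (by
      rintro _ ⟨a, ha, rfl⟩
      obtain ⟨u, hu, hau⟩ := hE0 a ha
      rw [← map_pow, Φ.cube_diag hker hsurj hc hu hau, map_one])
    (by rw [Nat.card_congr (E0.equivMapOfInjective _ K.subtype_injective).symm.toEquiv, hcardE])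
  refine ⟨g, ?_⟩
  set K' := K.map (MulAut.conj g).toMonoidHom
  let Θ : K →* ↥(Cfsg.SU 6 F 2) := (MulAut.conj g).toMonoidHom.comp K.subtype
  have hΘK : ∀ x, Θ x ∈ K' := fun x => ⟨x.1, x.2, rfl⟩
  have hΘ : ∀ x ∈ E0, Θ x ∈ Diag := fun x hx => hg ▸ ⟨x.1, ⟨x, hx, rfl⟩, rfl⟩
  have hΘ' : ∀ d ∈ Diag, ∃ x ∈ E0, Θ x = d := by
    intro d hd
    rw [← hg] at hd
    obtain ⟨_, ⟨x, hx, rfl⟩, rfl⟩ := hd
    exact ⟨x, hx, rfl⟩
  have key : ∀ σ : alternatingGroup (Fin 6), ∃ (x : K) (τ : Equiv.Perm (Fin 6)),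
      Φ.Lft π x (Φ.permEl σ.1) ∧ Φ.IsMono (Θ x) τ := by
    intro σ
    obtain ⟨x, hx⟩ := Φ.exists_lft hsurj (Φ.permEl_mem_Kc one_mem_list σ.2)
    obtain ⟨τ, d, hd, hp, e⟩ := Φ.mono_of_normalizes (g := Θ x) fun d hd => by
      obtain ⟨y, hy, rfl⟩ := hΘ' d hd
      obtain ⟨u, hu, hyu⟩ := hE0 y hy
      rw [← map_inv, ← map_mul, ← map_mul]
      exact hΘ _ (hE0' _ _ (Φ.conj_diag hu σ.1) (Φ.lft_mul (Φ.lft_mul (Φ.lft_inv hx) hyu) hx))
    exact ⟨x, τ, hx, d, hd, hp, e⟩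
  choose s f hs hf using key
  have hfix : ∀ x y : K, ∀ h, Φ.Lft π x h → Φ.Lft π y h → x⁻¹ * y ∈ E0 := fun x y h hx hy =>
    hE0' _ 1 (one_mem _) (inv_mul_cancel h ▸ Φ.lft_mul (Φ.lft_inv hx) hy)
  have hmul : ∀ a b, f (a * b) = f a * f b := by
    intro a b
    have hab : Φ.Lft π (s a * s b) (Φ.permEl (a * b).1) := by
      rw [Subgroup.coe_mul, map_mul]
      exact Φ.lft_mul (hs a) (hs b)
    have hz := Φ.isMono_diag (hΘ _ (hfix _ _ _ hab (hs (a * b))))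
    have := Φ.isMono_mul (Φ.isMono_mul (hf a) (hf b)) hz
    rw [← map_mul, ← map_mul, mul_inv_cancel_left, mul_one] at this
    exact Φ.isMono_unique (hf (a * b)) this
  let fh : alternatingGroup (Fin 6) →* Equiv.Perm (Fin 6) := MonoidHom.mk' f hmul
  have hinj : Function.Injective fh := by
    rw [injective_iff_map_eq_one]
    intro a ha
    have ha' : f a = 1 := ha
    obtain ⟨d, hd, hp, hda⟩ := hf a
    rw! [ha'] at hda
    obtain ⟨y, hy, hyd⟩ := hΘ' _ (Φ.mono_one_mem d hd hp)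
    have : y = s a := Subtype.ext ((MulAut.conj g).injective (hyd.trans hda.symm))
    obtain ⟨h, hh, hk, heq⟩ := hE0 _ (this ▸ hy)
    obtain ⟨hk', heq'⟩ := hs a
    have hz := QuotientGroup.eq.1 (heq'.symm.trans heq)
    rw [hI.center_eq Φ, Subgroup.mem_subgroupOf] at hz
    have hzD : (Φ.permEl a.1)⁻¹ * h ∈ Diag := Φ.center_le_Diag hz
    have hp1 : Φ.permEl a.1 ∈ Diag := by
      have := mul_mem hh (inv_mem hzD)
      rwa [_root_.mul_inv_rev, inv_inv, ← mul_assoc, mul_inv_cancel, one_mul] at this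
    exact Subtype.ext (Φ.isMono_unique ⟨fun _ => 1, fun _ => one_ne_zero, by simp, rfl⟩ (Φ.isMono_diag hp1))
  have hrange : fh.range = alternatingGroup (Fin 6) := by
    refine Equiv.Perm.eq_alternatingGroup_of_index_eq_two ?_
    have h1 := fh.range.index_mul_card
    rw [Nat.card_congr (MonoidHom.ofInjective hinj).symm.toEquiv, Nat.card_perm, Nat.card_fin,
      nat_card_alternatingGroup, Nat.card_fin] at h1
    norm_num [Nat.factorial] at h1
    omega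
  intro σ hσ d hd hp
  rw [← hrange] at hσ
  obtain ⟨a, rfl⟩ := hσ
  obtain ⟨e, he, hq, hea⟩ := hf a
  have hd' : ∀ j, (e j)⁻¹ * d j ≠ 0 := fun j => mul_ne_zero (inv_ne_zero (he j)) (hd j)
  have hp' : ∏ j, (e j)⁻¹ * d j = 1 := by rw [Finset.prod_mul_distrib, Finset.prod_inv_distrib, hp, hq]; simp
  obtain ⟨y, -, hy⟩ := hΘ' _ (Φ.mono_one_mem _ hd' hp')
  have : Φ.mono (f a) d hd hp = Θ (s a) * Θ y := by
    rw [hy, hea]
    rw [Φ.mono_mul (f a) 1 e _ d he hq hd' hp' hd hp fun j => by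
      rw [Equiv.Perm.one_apply, mul_inv_cancel_left₀ (he j)]]
    simp only [mul_one]
  show Φ.mono (f a) d hd hp ∈ _
  rw [this]
  exact mul_mem (hΘK _) (hΘK _)

end GF4

end Cfsg.Agent.U62Sub
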