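import Cfsg.Agent.Lib.U62Sub.Monomial
import Cfsg.Agent.Lib.U62Sub.CheckOff

/-!
# Orbits of subgroups containing the even monomial elements, and the three classes
-/

set_option autoImplicit false

namespace Cfsg.Agent.U62Sub

open Cfsg Matrix MulAction

variable {F : Type*} [Field F]

/-- The size of a union of classes. -/
def szT (t0 t1 t2 t3 t4 : Bool) : ℕ :=
  (if t0 then 135 else 0) + (if t1 then 1215 else 0) + (if t2 then 243 else 0) + (if t3 then 243 else 0) +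
    (if t4 then 243 else 0)

theorem szT_dvd : ∀ t1 t2 t3 t4 : Bool, szT true t1 t2 t3 t4 ∣ 9797760 →
    (t1 = false ∧ t2 = false ∧ t3 = false ∧ t4 = false) ∨ (t1 = false ∧ t2 = true ∧ t3 = true ∧ t4 = true) ∨
      (t1 = false ∧ t2 = true ∧ t3 = false ∧ t4 = false) ∨ (t1 = false ∧ t2 = false ∧ t3 = true ∧ t4 = false) ∨
      (t1 = false ∧ t2 = false ∧ t3 = false ∧ t4 = true) := by
  decide +kernel

theorem szT_378 : ∀ t0 t1 t2 t3 t4 : Bool, szT t0 t1 t2 t3 t4 = 378 → t0 = true := by decide +kernel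

theorem card_filter_range (N : ℕ) (p : ℕ → Bool) :
    ((Finset.range N).filter fun n => p n = true).card = (List.range N).countP p := by
  rw [List.countP_eq_length_filter]
  induction N with
  | zero => rfl
  | succ n ih =>
    rw [Finset.range_add_one, Finset.filter_insert, List.range_succ, List.filter_append]
    by_cases h : p n = true <;> simp [h, ih]

theorem cls_rep_bound : ∀ k < 5, rep k < 4096 := fun k hk => (rep_cls k hk).1

theorem witD_lt {n k x : ℕ} (hx : x < 4) (s : Fin 6 × Fin 6 × Fin 6 × Fin 6) (i : ℕ) : witD n k x s i < 4 := by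
  unfold witD
  split_ifs
  · exact hx
  · norm_num
  · exact mulC_lt _ _

theorem orbit_smul_mem {H : Subgroup ↥(Cfsg.SU 6 F 2)} {g : ↥(Cfsg.SU 6 F 2)} (hg : g ∈ H) {v w : Fin 6 → F}
    (hw : w ∈ orbit H v) : g • w ∈ orbit H v :=
  mapsTo_smul_orbit (⟨g, hg⟩ : H) v hw

theorem mem_orbit_self' (H : Subgroup ↥(Cfsg.SU 6 F 2)) (v : Fin 6 → F) : v ∈ orbit H v := mem_orbit_self v

namespace GF4

variable (Φ : GF4 F)

/-- `H` contains the monomial elements with even permutations. -/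
def HasMono (H : Subgroup ↥(Cfsg.SU 6 F 2)) : Prop :=
  ∀ σ ∈ alternatingGroup (Fin 6), ∀ (d : Fin 6 → F) (hd : ∀ j, d j ≠ 0) (hp : ∏ j, d j = 1),
    Φ.mono σ d hd hp ∈ H

theorem hasMono_Kc {c : ℕ} (hc : c ∈ [1, 2, 3]) : Φ.HasMono (Φ.Kc c) :=
  fun _ hσ d hd hp => Φ.mono_mem_Kc hc hσ d hd hp

variable {H : Subgroup ↥(Cfsg.SU 6 F 2)}

theorem reach_of_rep (hH : Φ.HasMono H) {n : ℕ} (hn : n < 4096) (hk : cls n < 5) :
    ∃ h ∈ H, h • Φ.vec (rep (cls n)) = Φ.vec n := by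
  obtain ⟨s, hs, x, hx, hw⟩ := witness n hn hk
  have hx4 : x < 4 := by fin_cases hx <;> norm_num
  simp only [witOK, Bool.and_eq_true, List.all_eq_true, List.mem_range, bne_iff_ne, beq_iff_eq] at hw
  obtain ⟨hall, hprod⟩ := hw
  let d : Fin 6 → F := fun i => Φ.val (witD n (cls n) x s i)
  have hd : ∀ i, d i ≠ 0 := fun i h => (hall i i.2).1 ((Φ.val_eq_zero (witD_lt hx4 s _)).1 h)
  have hp : ∏ i, d i = 1 := by
    have h := Φ.prod_vec (pack (witD n (cls n) x s))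
    rw [hprod, val_one] at h
    rw [← h]
    exact Finset.prod_congr rfl fun i _ => (congrArg Φ.val (dig_pack (witD_lt hx4 s) i)).symm
  refine ⟨_, hH (swPerm s) (Equiv.Perm.mem_alternatingGroup.2 (swaps_sign s hs)) d hd hp, funext fun i => ?_⟩
  rw [← (swPerm s).apply_symm_apply i, Φ.mono_apply]
  set j := (swPerm s).symm i
  show Φ.val _ * Φ.val _ = Φ.val (dig n (swPerm s j))
  rw [← Φ.val_mul (witD_lt hx4 s _) (dig_lt _ _), (hall j j.2).2,
    show Fin.ofNat 6 j.val = j from Fin.ext (Nat.mod_eq_of_lt j.2)]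

theorem cls_lt_of_mem {v : Fin 6 → F} (hv : v ≠ 0) (h0 : hermForm 6 F 2 v v = 0) {g : ↥(Cfsg.SU 6 F 2)} {n : ℕ}
    (hn : n < 4096) (e : Φ.vec n = g • v) : cls n < 5 := by
  refine isotropic_cls n hn (fun h => ?_) ((Φ.herm_vec_zero n n).1 (by rw [e, act_herm, h0]))
  subst h
  rw [vec_zero] at e
  exact act_ne_zero g hv e.symm

theorem orbit_classes (hH : Φ.HasMono H) {v : Fin 6 → F} (hv : v ≠ 0) (h0 : hermForm 6 F 2 v v = 0) {n : ℕ}
    (hn : n < 4096) :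
    Φ.vec n ∈ orbit H v ↔ cls n < 5 ∧ Φ.vec (rep (cls n)) ∈ orbit H v := by
  constructor
  · rintro ⟨g, hg⟩
    have hk := Φ.cls_lt_of_mem hv h0 hn (g := g.1) hg.symm
    refine ⟨hk, ?_⟩
    obtain ⟨h, hh, e⟩ := Φ.reach_of_rep hH hn hk
    refine ⟨⟨h⁻¹, inv_mem hh⟩ * g, ?_⟩
    show (h⁻¹ * g.1) • v = _
    rw [mul_smul, show g.1 • v = Φ.vec n from hg, ← e, inv_smul_smul]
  · rintro ⟨hk, g, hg⟩
    obtain ⟨h, hh, e⟩ := Φ.reach_of_rep hH hn hk
    refine ⟨⟨h, hh⟩ * g, ?_⟩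
    show (h * g.1) • v = _
    rw [mul_smul, show g.1 • v = _ from hg, e]

/-- A union of classes. -/
def tf (t0 t1 t2 t3 t4 : Bool) (n : ℕ) : Bool :=
  decide (cls n < 5) && [t0, t1, t2, t3, t4].getD (cls n) false

theorem tf_count (t0 t1 t2 t3 t4 : Bool) :
    ((Finset.range 4096).filter fun n => tf t0 t1 t2 t3 t4 n = true).card = szT t0 t1 t2 t3 t4 := by
  have hmaps : ∀ n ∈ (Finset.range 4096).filter (fun n => tf t0 t1 t2 t3 t4 n = true), cls n ∈ Finset.range 5 := by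
    intro n hn
    simp only [Finset.mem_filter, tf, Bool.and_eq_true, decide_eq_true_eq] at hn
    exact Finset.mem_range.2 hn.2.1
  rw [Finset.card_eq_sum_card_fiberwise hmaps, szT]
  have key : ∀ k < 5, (((Finset.range 4096).filter fun n => tf t0 t1 t2 t3 t4 n = true).filter fun n => cls n = k).card
      = if [t0, t1, t2, t3, t4].getD k false then [135, 1215, 243, 243, 243].getD k 0 else 0 := by
    intro k hk
    rw [Finset.filter_filter]
    by_cases ht : [t0, t1, t2, t3, t4].getD k false = true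
    · rw [if_pos ht, ← class_count k hk]
      refine congrArg Finset.card (Finset.filter_congr fun n _ => ?_)
      simp only [tf, Bool.and_eq_true, decide_eq_true_eq, beq_iff_eq]
      exact ⟨fun h => h.2, fun h => ⟨⟨h ▸ hk, h ▸ ht⟩, h⟩⟩
    · rw [if_neg ht, Finset.card_eq_zero, Finset.filter_eq_empty_iff]
      intro n _ h
      simp only [tf, Bool.and_eq_true, decide_eq_true_eq] at h
      exact ht (h.2 ▸ h.1.2)
  rw [Finset.sum_congr rfl fun k hk => key k (Finset.mem_range.1 hk)]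
  simp [Finset.sum_range_succ]

theorem orbit_shape (hH : Φ.HasMono H) {v : Fin 6 → F} (hv : v ≠ 0) (h0 : hermForm 6 F 2 v v = 0) :
    ∃ t0 t1 t2 t3 t4 : Bool, orbit H v = Φ.vec '' {n | n < 4096 ∧ tf t0 t1 t2 t3 t4 n = true} ∧
      (orbit H v).ncard = szT t0 t1 t2 t3 t4 ∧
      (Φ.vec (rep 0) ∈ orbit H v ↔ t0 = true) := by
  classical
  let t : ℕ → Bool := fun k => decide (Φ.vec (rep k) ∈ orbit H v)
  have ht : ∀ k < 5, [t 0, t 1, t 2, t 3, t 4].getD k false = t k := by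
    intro k hk; interval_cases k <;> rfl
  have e : orbit H v = Φ.vec '' {n | n < 4096 ∧ tf (t 0) (t 1) (t 2) (t 3) (t 4) n = true} := by
    ext w
    obtain ⟨n, hn, rfl⟩ := Φ.vec_surj w
    rw [Φ.orbit_classes hH hv h0 hn]
    constructor
    · rintro ⟨hk, hm⟩
      refine ⟨n, ⟨hn, ?_⟩, rfl⟩
      simp only [tf, Bool.and_eq_true, decide_eq_true_eq]
      exact ⟨hk, by rw [ht _ hk]; exact decide_eq_true hm⟩
    · rintro ⟨m, ⟨hm, h⟩, he⟩
      obtain rfl := Φ.vec_inj hm hn he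
      simp only [tf, Bool.and_eq_true, decide_eq_true_eq] at h
      rw [ht _ h.1] at h
      exact ⟨h.1, of_decide_eq_true h.2⟩
  exact ⟨t 0, t 1, t 2, t 3, t 4, e, by rw [e, Φ.ncard_image, tf_count],
    decide_eq_true_iff.symm⟩

/-- The base isotropic vector. -/
def p0 : Fin 6 → F := Φ.vec (rep 0)

theorem p0_ne : Φ.p0 ≠ 0 := fun h => by
  rw [p0, ← Φ.vec_zero] at h
  exact absurd (Φ.vec_inj (by decide) (by norm_num) h) (by decide)

theorem p0_herm : hermForm 6 F 2 Φ.p0 Φ.p0 = 0 := (Φ.herm_vec_zero _ _).2 (by decide)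

theorem ncard_pred_invariant (hinv : ∀ g ∈ H, ∀ v ∈ Φ.Cl 0, g • v ∈ Φ.Cl 0) {g : ↥(Cfsg.SU 6 F 2)} (hg : g ∈ H)
    (u : Fin 6 → F) :
    {v | v ∈ Φ.Cl 0 ∧ hermForm 6 F 2 v (g • u) ≠ 0}.ncard = {v | v ∈ Φ.Cl 0 ∧ hermForm 6 F 2 v u ≠ 0}.ncard := by
  rw [← Set.ncard_image_of_injective _ (MulAction.injective g⁻¹)]
  congr 1
  ext v
  constructor
  · rintro ⟨x, ⟨hx, hx'⟩, rfl⟩
    refine ⟨hinv _ (inv_mem hg) _ hx, ?_⟩
    rwa [← act_herm g, smul_inv_smul]
  · rintro ⟨hv, hv'⟩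
    exact ⟨g • v, ⟨hinv _ hg _ hv, by rwa [act_herm]⟩, inv_smul_smul g v⟩

theorem off0_eq {n : ℕ} (_hn : n < 4096) :
    {v | v ∈ Φ.Cl 0 ∧ hermForm 6 F 2 v (Φ.vec n) ≠ 0}.ncard = off0 n := by
  have e : {v | v ∈ Φ.Cl 0 ∧ hermForm 6 F 2 v (Φ.vec n) ≠ 0} =
      Φ.vec '' {q | q < 4096 ∧ (fun q => hC q n != 0 && cls q == 0) q = true} := by
    ext v
    constructor
    · rintro ⟨⟨q, ⟨hq, hc⟩, rfl⟩, h⟩
      refine ⟨q, ⟨hq, ?_⟩, rfl⟩
      simp only [Bool.and_eq_true, bne_iff_ne, beq_iff_eq]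
      exact ⟨fun e => h ((Φ.herm_vec_zero q n).2 e), hc⟩
    · rintro ⟨q, ⟨hq, hc⟩, rfl⟩
      simp only [Bool.and_eq_true, bne_iff_ne, beq_iff_eq] at hc
      exact ⟨⟨q, ⟨hq, hc.2⟩, rfl⟩, fun e => hc.1 ((Φ.herm_vec_zero q n).1 e)⟩
  rw [e, Φ.ncard_image, card_filter_range, off0, ← L0_spec, List.countP_filter]

theorem not_preserve_Cl0 (hcard : Nat.card H = 9797760) (hinv : ∀ g ∈ H, ∀ v ∈ Φ.Cl 0, g • v ∈ Φ.Cl 0) :
    False := by
  haveI := Φ.finite_field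
  have key : ∀ g : H, ∃ (σ : Equiv.Perm (Fin 6)) (d : Fin 6 → F) (hd : ∀ j, d j ≠ 0) (hp : ∏ j, d j = 1),
      g.1 = Φ.mono σ d hd hp := fun g => Φ.exists_mono fun j => by
    obtain ⟨n, hn, e⟩ := Φ.vec_surj (g.1 • (Pi.single j 1 : Fin 6 → F))
    have h1 : hC n n = 1 := (Φ.herm_vec_one n n).1 (by rw [e, act_herm, herm_single_right, Pi.single_eq_same])
    have h45 : off0 n = 45 := by
      rw [← Φ.off0_eq hn, e, Φ.ncard_pred_invariant hinv g.2, ← Φ.vec_pow, Φ.off0_eq (pow_lt j), off0_unit j j.2]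
    obtain ⟨i, hi, e'⟩ := single_of_supp (v := Φ.vec n) (by rw [Φ.card_supp_vec, wt_of_off0 n hn h1 h45])
    exact ⟨i, _, hi, e.symm.trans e'⟩
  choose σ d hd hp hg using key
  let f : H → Equiv.Perm (Fin 6) × (Fin 6 → {x : F // x ≠ 0}) := fun g => (σ g, fun j => ⟨d g j, hd g j⟩)
  have hf : Function.Injective f := fun g g' h => by
    refine Subtype.ext (act_ext fun j => ?_)
    rw [hg g, hg g', Φ.mono_single, Φ.mono_single, show σ g = σ g' from (Prod.ext_iff.1 h).1,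
      show d g j = d g' j from congrArg Subtype.val (congrFun (Prod.ext_iff.1 h).2 j)]
  have := Nat.card_le_card_of_injective f hf
  rw [hcard, Nat.card_prod, Nat.card_fun, Φ.card_ne_zero_elems, Nat.card_perm, Nat.card_fin] at this
  norm_num [Nat.factorial] at this

theorem orth_count {O : Set (Fin 6 → F)}
    (hO : O = Φ.vec '' {n | n < 4096 ∧ (fun q => cls q == 0 || (2 ≤ cls q && cls q < 5)) n = true}) (n : ℕ) :
    {v | v ∈ O ∧ hermForm 6 F 2 (Φ.vec n) v = 0}.ncard = orth288 n := by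
  have e : {v | v ∈ O ∧ hermForm 6 F 2 (Φ.vec n) v = 0} = Φ.vec '' {q | q < 4096 ∧
      (fun q => (cls q == 0 || (2 ≤ cls q && cls q < 5)) && hC n q == 0) q = true} := by
    ext v
    constructor
    · rintro ⟨hv, h⟩
      rw [hO] at hv
      obtain ⟨q, ⟨hq, hc⟩, rfl⟩ := hv
      refine ⟨q, ⟨hq, ?_⟩, rfl⟩
      simp only [Bool.and_eq_true, beq_iff_eq]
      exact ⟨hc, (Φ.herm_vec_zero n q).1 h⟩
    · rintro ⟨q, ⟨hq, hc⟩, rfl⟩
      simp only [Bool.and_eq_true, beq_iff_eq] at hc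
      exact ⟨hO ▸ ⟨q, ⟨hq, hc.1⟩, rfl⟩, (Φ.herm_vec_zero n q).2 hc.2⟩
  rw [e, Φ.ncard_image, card_filter_range, List.countP_eq_length_filter, orth288]

theorem orbit_p0 (hH : Φ.HasMono H) (hcard : Nat.card H = 9797760) :
    ∃ c ∈ [1, 2, 3], orbit H Φ.p0 = Φ.S c := by
  haveI := Φ.finite_field
  obtain ⟨t0, t1, t2, t3, t4, e, hn, h0⟩ := Φ.orbit_shape hH Φ.p0_ne Φ.p0_herm
  obtain rfl : t0 = true := h0.1 (mem_orbit_self _)
  have hdvd : szT true t1 t2 t3 t4 ∣ 9797760 := by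
    rw [← hn, ← hcard, ← index_stabilizer]
    exact Subgroup.index_dvd_card _
  have hS : ∀ c ∈ [1, 2, 3], ∀ n, tf true false (c == 1) (c == 2) (c == 3) n = inS c n := by
    intro c hc n
    have hle : cls n ≤ 5 := by
      unfold cls
      have : prodC n < 4 := mulC_lt _ _
      dsimp only
      split_ifs <;> omega
    simp only [List.mem_cons, List.not_mem_nil, or_false] at hc
    unfold tf inS
    generalize cls n = k at hle
    rcases hc with rfl | rfl | rfl <;> interval_cases k <;> rfl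
  rcases szT_dvd t1 t2 t3 t4 hdvd with ⟨rfl, rfl, rfl, rfl⟩ | ⟨rfl, rfl, rfl, rfl⟩ | ⟨rfl, rfl, rfl, rfl⟩ |
      ⟨rfl, rfl, rfl, rfl⟩ | ⟨rfl, rfl, rfl, rfl⟩
  · refine (Φ.not_preserve_Cl0 hcard fun g hg v hv => ?_).elim
    have hC : orbit H Φ.p0 = Φ.Cl 0 := by
      rw [e, Cl]
      congr 1
      ext n
      simp only [Set.mem_setOf_eq, tf, Bool.and_eq_true, decide_eq_true_eq]
      refine and_congr_right fun _ => ⟨fun ⟨hk, ht⟩ => ?_, fun h => by rw [h]; simp⟩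
      interval_cases hc : cls n <;> simp_all
    rw [← hC] at hv ⊢
    exact orbit_smul_mem hg hv
  · exfalso
    have hO : orbit H Φ.p0 =
        Φ.vec '' {n | n < 4096 ∧ (fun q => cls q == 0 || (2 ≤ cls q && cls q < 5)) n = true} := by
      rw [e]
      congr 1
      ext n
      simp only [Set.mem_setOf_eq]
      refine and_congr_right fun _ => ?_
      unfold tf
      generalize cls n = k
      by_cases hk : k < 5
      · interval_cases k <;> decide
      · simp [hk, show k ≠ 0 by omega]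
    have h2 : Φ.vec (rep 2) ∈ orbit H Φ.p0 := by
      rw [e]
      exact ⟨rep 2, ⟨cls_rep_bound 2 (by norm_num), by simp [tf, (rep_cls 2 (by norm_num)).2]⟩, rfl⟩
    obtain ⟨g, hg⟩ := h2
    apply orth288_ne
    rw [← Φ.orth_count hO, ← Φ.orth_count hO, ← show g.1 • Φ.p0 = Φ.vec (rep 2) from hg,
      ← Set.ncard_image_of_injective _ (MulAction.injective g.1)]
    congr 1
    ext v
    constructor
    · rintro ⟨x, ⟨hx, hx'⟩, rfl⟩
      exact ⟨orbit_smul_mem g.2 hx, (act_herm _ _ _).trans hx'⟩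
    · rintro ⟨hv, hv'⟩
      refine ⟨g.1⁻¹ • v, ⟨orbit_smul_mem (inv_mem g.2) hv, ?_⟩, smul_inv_smul g.1 v⟩
      show hermForm 6 F 2 Φ.p0 _ = 0
      rwa [← act_herm g.1, smul_inv_smul]
  · exact ⟨1, by simp, by rw [e, S]; congr 1; ext n; rw [Set.mem_setOf_eq, Set.mem_setOf_eq, ← hS 1 (by simp)]; rfl⟩
  · exact ⟨2, by simp, by rw [e, S]; congr 1; ext n; rw [Set.mem_setOf_eq, Set.mem_setOf_eq, ← hS 2 (by simp)]; rfl⟩
  · exact ⟨3, by simp, by rw [e, S]; congr 1; ext n; rw [Set.mem_setOf_eq, Set.mem_setOf_eq, ← hS 3 (by simp)]; rfl⟩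

theorem le_M_of_orbit {c : ℕ} (h : orbit H Φ.p0 = Φ.S c) : H ≤ Φ.M c := fun g hg => Φ.mem_M fun v hv => by
  rw [← h] at hv ⊢
  exact orbit_smul_mem hg hv

theorem param_of_subset {a c : ℕ} (hc : c ∈ [1, 2, 3]) (h : Φ.S c ⊆ Φ.S a) : c = a := by
  have hc5 : 1 + c < 5 := by fin_cases hc <;> norm_num
  obtain ⟨hlt, hr⟩ := rep_cls (1 + c) hc5
  have := h ⟨rep (1 + c), ⟨hlt, by simp [inS, hr]⟩, rfl⟩
  rw [Φ.mem_S hlt, inS, hr] at this
  simp only [Bool.or_eq_true, beq_iff_eq] at this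
  omega

theorem orbit_Kc {a : ℕ} (ha : a ∈ [1, 2, 3]) : orbit (Φ.Kc a) Φ.p0 = Φ.S a := by
  obtain ⟨c, hc, e⟩ := Φ.orbit_p0 (Φ.hasMono_Kc ha) (Φ.isCover_Kc ha).card
  refine e.trans ?_
  obtain rfl : c = a := by
    refine Φ.param_of_subset hc (e ▸ ?_)
    rintro _ ⟨g, rfl⟩
    refine Φ.M_apply (Φ.Kc_le ha g.2) ?_
    exact (Φ.mem_S (cls_rep_bound 0 (by norm_num))).2 (by simp [inS, (rep_cls 0 (by norm_num)).2])
  rfl

theorem ncard_S {c : ℕ} (hc : c ∈ [1, 2, 3]) : (Φ.S c).ncard = 378 := by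
  rw [S, Φ.ncard_image]
  fin_cases hc <;> decide +kernel

theorem not_conj {a b : ℕ} (ha : a ∈ [1, 2, 3]) (hb : b ∈ [1, 2, 3]) {g : ↥(Cfsg.SU 6 F 2)}
    (h : (Φ.Kc a).map (MulAut.conj g).toMonoidHom = Φ.Kc b) : a = b := by
  have hSa := Φ.orbit_Kc ha
  have hSb := Φ.orbit_Kc hb
  have himg : orbit (Φ.Kc b) (g • Φ.p0) = (fun v => g • v) '' orbit (Φ.Kc a) Φ.p0 := by
    ext v
    constructor
    · rintro ⟨⟨k, hk⟩, rfl⟩
      rw [← h] at hk
      obtain ⟨x, hx, e⟩ := hk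
      refine ⟨x • Φ.p0, ⟨⟨x, hx⟩, rfl⟩, ?_⟩
      show g • x • Φ.p0 = k • g • Φ.p0
      rw [← e, ← mul_smul, ← mul_smul]
      simp [MulAut.conj_apply, mul_assoc]
    · rintro ⟨_, ⟨x, rfl⟩, rfl⟩
      refine ⟨⟨g * x.1 * g⁻¹, h ▸ ⟨x.1, x.2, rfl⟩⟩, ?_⟩
      show (g * x.1 * g⁻¹) • g • Φ.p0 = g • x.1 • Φ.p0
      rw [← mul_smul, inv_mul_cancel_right, mul_smul]
  obtain ⟨t0, t1, t2, t3, t4, -, hn, h0⟩ := Φ.orbit_shape (Φ.hasMono_Kc hb) (act_ne_zero g Φ.p0_ne)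
    (by rw [act_herm, Φ.p0_herm])
  rw [himg, Set.ncard_image_of_injective _ (MulAction.injective g), hSa, Φ.ncard_S ha] at hn
  have hp : Φ.p0 ∈ orbit (Φ.Kc b) (g • Φ.p0) := h0.2 (szT_378 _ _ _ _ _ hn.symm)
  have hS : ∀ v ∈ Φ.S a, g • v ∈ Φ.S b := fun v hv => by
    have hm : g • v ∈ orbit (Φ.Kc b) (g • Φ.p0) := by rw [himg, hSa]; exact ⟨v, hv, rfl⟩
    rw [← hSb, orbit_eq_iff.2 hp]
    exact hm
  obtain ⟨k, hk, ek⟩ := Φ.trans_Kc hb (g • (Pi.single 0 1 : Fin 6 → F)) (smul_mem_units g (single_mem_units 0))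
  refine Φ.param_eq ha hb (g := k⁻¹ * g) (by rw [mul_smul, ← ek, inv_smul_smul]) fun v hv => ?_
  rw [mul_smul]
  exact Φ.M_apply (inv_mem (Φ.Kc_le hb hk)) (hS v hv)

theorem eq_top_of_squares {K : Subgroup ↥(Cfsg.SU 6 F 2)} (hc : Nat.card (Subgroup.center K) = 3)
    (hiso : Nonempty (K ⧸ Subgroup.center K ≃* P43)) : Subgroup.closure {y : K | ∃ x, y = x ^ 2} = ⊤ := by
  obtain ⟨e⟩ := hiso
  haveI := simple_P43
  set N := Subgroup.closure {y : K | ∃ x, y = x ^ 2}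
  haveI : N.Normal := ⟨fun n hn g => by
    induction hn using Subgroup.closure_induction with
    | mem y hy =>
      obtain ⟨x, rfl⟩ := hy
      exact Subgroup.subset_closure ⟨g * x * g⁻¹, conj_pow.symm⟩
    | one => simp
    | mul a b _ _ ha hb =>
      rw [show g * (a * b) * g⁻¹ = g * a * g⁻¹ * (g * b * g⁻¹) by group]
      exact mul_mem ha hb
    | inv a _ ha =>
      rw [show g * a⁻¹ * g⁻¹ = (g * a * g⁻¹)⁻¹ by group]
      exact inv_mem ha⟩
  let π : K →* P43 := e.toMonoidHom.comp (QuotientGroup.mk' _)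
  have hπ : Function.Surjective π := e.surjective.comp (QuotientGroup.mk'_surjective _)
  haveI : (N.map π).Normal := Subgroup.Normal.map inferInstance π hπ
  rcases IsSimpleGroup.eq_bot_or_eq_top_of_normal (N.map π) inferInstance with h | h
  · exfalso
    have hsq : ∀ p : P43, p * p = 1 := fun p => by
      obtain ⟨x, rfl⟩ := hπ p
      have : π (x ^ 2) ∈ N.map π := ⟨_, Subgroup.subset_closure ⟨x, rfl⟩, rfl⟩
      rwa [h, Subgroup.mem_bot, map_pow, pow_two] at this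
    have : Subgroup.center P43 = ⊤ := eq_top_iff.2 fun p _ => Subgroup.mem_center_iff.2 fun q => by
      have hp := inv_eq_of_mul_eq_one_right (hsq p)
      have hq := inv_eq_of_mul_eq_one_right (hsq q)
      have hpq := inv_eq_of_mul_eq_one_right (hsq (p * q))
      rw [_root_.mul_inv_rev, hp, hq] at hpq
      exact hpq
    have h2 : Nat.card (⊤ : Subgroup P43) = Nat.card (⊥ : Subgroup P43) := by rw [← this, center_P43]
    rw [Subgroup.card_top, Subgroup.card_bot, card_P43] at h2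
    norm_num at h2
  · refine eq_top_iff.2 fun x _ => ?_
    obtain ⟨n, hn, e'⟩ := (h ▸ Subgroup.mem_top (π x) : π x ∈ N.map π)
    have hz : n⁻¹ * x ∈ Subgroup.center K := by
      rw [← QuotientGroup.eq_one_iff, ← e.map_eq_one_iff]
      show π (n⁻¹ * x) = 1
      rw [map_mul, map_inv, e', inv_mul_cancel]
    have h3 : (n⁻¹ * x) ^ 3 = 1 := by
      have := pow_card_eq_one' (x := (⟨_, hz⟩ : Subgroup.center K))
      rw [hc] at this
      exact congrArg Subtype.val this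
    have hzN : n⁻¹ * x ∈ N := by
      refine (?_ : n⁻¹ * x = ((n⁻¹ * x) ^ 2) ^ 2) ▸ Subgroup.subset_closure ⟨_, rfl⟩
      rw [← pow_mul, show 2 * 2 = 3 + 1 from rfl, pow_succ, h3, one_mul]
    simpa using mul_mem hn hzN

set_option maxHeartbeats 1600000 in
theorem exists_conj_Kc (K : Subgroup ↥(Cfsg.SU 6 F 2)) (hc : Nat.card (Subgroup.center K) = 3)
    (hiso : Nonempty (K ⧸ Subgroup.center K ≃* P43)) :
    ∃ g : ↥(Cfsg.SU 6 F 2), ∃ c ∈ [1, 2, 3], K.map (MulAut.conj g).toMonoidHom = Φ.Kc c := by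
  haveI := Φ.finite_field
  obtain ⟨g, hg⟩ := Φ.exists_conj_mono K hc hiso
  set K' := K.map (MulAut.conj g).toMonoidHom
  have hcard : Nat.card K' = 9797760 := by
    obtain ⟨e⟩ := hiso
    rw [← Nat.card_congr (K.equivMapOfInjective _ (MulAut.conj g).injective).toEquiv,
      Subgroup.card_eq_card_quotient_mul_card_subgroup (Subgroup.center K), hc, Nat.card_congr e.toEquiv,
      card_P43]
  obtain ⟨c, hc', e⟩ := Φ.orbit_p0 hg hcard
  refine ⟨g, c, hc', Subgroup.eq_of_le_of_card_ge ?_ (by rw [hcard, (Φ.isCover_Kc hc').card])⟩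
  have hM := Φ.le_M_of_orbit e
  let H := (Φ.Kc c).subgroupOf (Φ.M c)
  have hH : H.index ≤ 2 := by
    have h1 := H.index_mul_card
    have h2 := Φ.card_M_le hc'
    rw [Nat.card_congr (Subgroup.subgroupOfEquivOfLe (Φ.Kc_le hc')).toEquiv, (Φ.isCover_Kc hc').card] at h1
    omega
  have hsq : ∀ y : Φ.M c, y ^ 2 ∈ H := fun y => by
    have := H.index_ne_zero_of_finite
    interval_cases h : H.index
    · exact absurd rfl this
    · exact (Subgroup.index_eq_one.1 h) ▸ Subgroup.mem_top _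
    · exact Subgroup.sq_mem_of_index_two h _
  have htop : (⊤ : Subgroup K) ≤ (Φ.Kc c).comap ((MulAut.conj g).toMonoidHom.comp K.subtype) := by
    rw [← eq_top_of_squares hc hiso, Subgroup.closure_le]
    rintro _ ⟨x, rfl⟩
    show ((MulAut.conj g).toMonoidHom.comp K.subtype) (x ^ 2) ∈ Φ.Kc c
    rw [map_pow]
    exact hsq ⟨_, hM ⟨x.1, x.2, rfl⟩⟩
  rintro _ ⟨x, hx, rfl⟩
  exact htop (Subgroup.mem_top (⟨x, hx⟩ : K))

end GF4

end Cfsg.Agent.U62Sub
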