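import Cfsg.Agent.Lib.U62Sub.Mono
import Cfsg.Agent.Lib.U62Sub.Checks
import Mathlib.Algebra.Group.Action.Pointwise.Finset
import Mathlib.GroupTheory.GroupAction.Quotient

/-!
# Stabilisers of the sets of `378` vectors

An element fixing the first coordinate vector and carrying one such set into another is monomial,
and the parameters agree; so the stabiliser has at most `19595520` elements.
-/

set_option autoImplicit false

namespace Cfsg.Agent.U62Sub

open Cfsg Matrix MulAction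
open scoped Pointwise

variable {F : Type*} [Field F]

namespace GF4

variable (Φ : GF4 F)

/-- The stabiliser of a set. -/
def M (c : ℕ) : Subgroup ↥(Cfsg.SU 6 F 2) := stabilizer ↥(Cfsg.SU 6 F 2) (Φ.S c)

theorem finite_S (c : ℕ) : (Φ.S c).Finite := ((Set.finite_Iio 4096).subset fun _ h => h.1).image _

theorem mem_M {c : ℕ} {g : ↥(Cfsg.SU 6 F 2)} (h : ∀ v ∈ Φ.S c, g • v ∈ Φ.S c) : g ∈ Φ.M c := by
  refine mem_stabilizer_iff.2 (Set.eq_of_subset_of_ncard_le ?_ (le_of_eq ?_) (Φ.finite_S c))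
  · rintro _ ⟨v, hv, rfl⟩; exact h v hv
  · exact (Set.ncard_image_of_injective _ (MulAction.injective g)).symm

theorem M_apply {c : ℕ} {g : ↥(Cfsg.SU 6 F 2)} (hg : g ∈ Φ.M c) {v : Fin 6 → F} (hv : v ∈ Φ.S c) :
    g • v ∈ Φ.S c := by
  rw [← mem_stabilizer_iff.1 hg]
  exact Set.smul_mem_smul_set hv

theorem dig_pow : ∀ j k : Fin 6, dig (4 ^ (j : ℕ)) k = if j = k then 1 else 0 := by decide

theorem vec_pow (j : Fin 6) : Φ.vec (4 ^ (j : ℕ)) = Pi.single j 1 := funext fun k => by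
  show Φ.val (dig _ _) = _
  rw [dig_pow]
  by_cases h : j = k
  · subst h; simp [val_one]
  · simp [h, val_zero, Ne.symm h]

theorem vec_one : Φ.vec 1 = Pi.single 0 1 := Φ.vec_pow 0

theorem supp_pair {j : Fin 6} (hj : j ≠ 0) {a : F} (ha : a ≠ 0) :
    (supp ((Pi.single 0 1 : Fin 6 → F) + a • Pi.single j 1)).card = 2 := by
  rw [show supp ((Pi.single 0 1 : Fin 6 → F) + a • Pi.single j 1) = {0, j} from Finset.ext fun i => by
    rw [mem_supp]
    by_cases h0 : i = 0
    · subst h0; simp [hj.symm]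
    · by_cases h : i = j
      · subst h; simp [hj, ha]
      · simp [h0, h], Finset.card_pair hj.symm]

theorem monomial_of_lines {a b : ℕ} (ha : a ∈ [1, 2, 3]) (hb : b ∈ [1, 2, 3]) {g : ↥(Cfsg.SU 6 F 2)}
    (h0 : g • (Pi.single 0 1 : Fin 6 → F) = Pi.single 0 1) (hS : ∀ v ∈ Φ.S a, g • v ∈ Φ.S b) :
    ∃ (σ : Equiv.Perm (Fin 6)) (d : Fin 6 → F) (hd : ∀ j, d j ≠ 0) (hp : ∏ j, d j = 1),
      g = Φ.mono σ d hd hp ∧ σ 0 = 0 ∧ d 0 = 1 := by
  obtain ⟨σ, d, hd, hp, rfl⟩ := Φ.exists_mono (g := g) fun j => by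
    by_cases hj : j = 0
    · subst hj; exact ⟨0, 1, one_ne_zero, h0.trans (one_smul _ _).symm⟩
    obtain ⟨n, hn, hv⟩ := Φ.vec_surj (g • (Pi.single j 1 : Fin 6 → F))
    have hline : ∀ x, x < 4 → x ≠ 0 → inS b (1 ^^^ sC x n) = true := fun x hx hx0 => by
      have hne : Φ.val x ≠ 0 := fun e => hx0 ((Φ.val_eq_zero hx).1 e)
      have hmem := hS _ ((Φ.mem_S_iff ha _).2 (Or.inl (supp_pair hj hne)))
      rw [act_add, act_smul, h0, ← hv, ← Φ.vec_sC hx, ← Φ.vec_one, ← Φ.vec_xor,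
        Φ.mem_S (xor_lt (by norm_num) (sC_lt _ _))] at hmem
      exact hmem
    have h11 : hC n n = 1 := by
      rw [← Φ.herm_vec_one, hv, act_herm, herm_single_right, Pi.single_eq_same]
    have h10 : hC 1 n = 0 := by
      rw [← Φ.herm_vec_zero, hv, Φ.vec_one, ← h0, act_herm, herm_single_right, Pi.single_eq_of_ne hj]
    have hsC : sC 1 n = n := by
      refine Φ.vec_inj (sC_lt _ _) hn ?_
      rw [Φ.vec_sC (by norm_num), val_one, one_smul]
    have hlo : lineOK b n = true := by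
      simp only [lineOK, Bool.and_eq_true]
      refine ⟨⟨?_, hline 2 (by norm_num) (by norm_num)⟩, hline 3 (by norm_num) (by norm_num)⟩
      simpa [hsC] using hline 1 (by norm_num) one_ne_zero
    have hwt := wt_of_lines b hb n hn h11 h10 hlo
    obtain ⟨i, hi, e⟩ := single_of_supp (v := Φ.vec n) (by rw [Φ.card_supp_vec, hwt])
    exact ⟨i, _, hi, hv.symm.trans e⟩
  rw [Φ.mono_single] at h0
  have h00 : σ 0 = 0 := by
    by_contra h
    have := congrFun h0 (σ 0)
    simp [h, hd] at this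
  refine ⟨σ, d, hd, hp, rfl, h00, ?_⟩
  have := congrFun h0 0
  simpa [h00] using this

theorem param_eq {a b : ℕ} (ha : a ∈ [1, 2, 3]) (hb : b ∈ [1, 2, 3]) {g : ↥(Cfsg.SU 6 F 2)}
    (h0 : g • (Pi.single 0 1 : Fin 6 → F) = Pi.single 0 1) (hS : ∀ v ∈ Φ.S a, g • v ∈ Φ.S b) : a = b := by
  obtain ⟨σ, d, hd, hp, rfl, -, -⟩ := Φ.monomial_of_lines ha hb h0 hS
  have ha4 : a < 4 := by fin_cases ha <;> norm_num
  have hb4 : b < 4 := by fin_cases hb <;> norm_num
  obtain ⟨hlt, hr⟩ := rep_cls (1 + a) (by omega)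
  obtain ⟨h6, hp6⟩ := (cls_six ha _).1 hr
  have hv := hS (Φ.vec (rep (1 + a))) ((Φ.mem_S_iff ha _).2 (Or.inr ⟨by rw [Φ.card_supp_vec, h6],
    by rw [Φ.prod_vec, hp6]⟩))
  rw [Φ.mem_S_iff hb, Φ.supp_mono, Φ.prod_mono, Φ.card_supp_vec, h6, Φ.prod_vec, hp6] at hv
  rcases hv with hv | ⟨-, hv⟩
  · norm_num at hv
  · exact Φ.val_inj ha4 hb4 hv

include Φ in
theorem card_ne_zero_elems : Nat.card {x : F // x ≠ 0} = 3 := by
  have e : Function.Bijective fun i : Fin 3 =>
      (⟨Φ.val (i.val + 1), fun h => by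
        have := (Φ.val_eq_zero (a := i.val + 1) (by omega)).1 h
        omega⟩ : {x : F // x ≠ 0}) := by
    refine ⟨fun i j h => Fin.ext ?_, fun ⟨x, hx⟩ => ?_⟩
    · have := Φ.val_inj (a := i.val + 1) (b := j.val + 1) (by omega) (by omega) (congrArg Subtype.val h)
      omega
    · obtain ⟨a, ha, rfl⟩ := Φ.val_surj x
      have : a ≠ 0 := fun h => hx ((Φ.val_eq_zero ha).2 h)
      exact ⟨⟨a - 1, by omega⟩, Subtype.ext (congrArg Φ.val (Nat.sub_add_cancel (Nat.pos_of_ne_zero this)))⟩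
  rw [← Nat.card_congr (Equiv.ofBijective _ e), Nat.card_fin]

include Φ in
theorem finite_field : Finite F := by
  refine Finite.of_surjective (fun i : Fin 4 => Φ.val i) fun x => ?_
  obtain ⟨a, ha, rfl⟩ := Φ.val_surj x
  exact ⟨⟨a, ha⟩, rfl⟩

/-- The unit vectors. -/
def units6 : Set (Fin 6 → F) := {v | hermForm 6 F 2 v v = 1}

include Φ in
theorem ncard_units : (units6 (F := F)).ncard = 2016 := by
  have e : units6 (F := F) = Φ.vec '' {n | n < 4096 ∧ (fun n => hC n n == 1) n = true} := by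
    ext v
    obtain ⟨n, hn, rfl⟩ := Φ.vec_surj v
    refine ⟨fun h => ⟨n, ⟨hn, ?_⟩, rfl⟩, ?_⟩
    · simpa using (Φ.herm_vec_one n n).1 h
    · rintro ⟨m, ⟨-, hm⟩, e⟩
      show hermForm 6 F 2 _ _ = 1
      rw [← e, Φ.herm_vec_one]
      simpa using hm
  rw [e, Φ.ncard_image]
  exact units_count

theorem single_mem_units (j : Fin 6) : (Pi.single j 1 : Fin 6 → F) ∈ units6 (F := F) := by
  show hermForm 6 F 2 _ _ = 1
  rw [herm_single_right, Pi.single_eq_same]

theorem smul_mem_units (g : ↥(Cfsg.SU 6 F 2)) {v : Fin 6 → F} (hv : v ∈ units6 (F := F)) :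
    g • v ∈ units6 (F := F) := by
  show hermForm 6 F 2 _ _ = 1
  rw [act_herm]
  exact hv

theorem perm_fix_zero : (Finset.univ.filter fun σ : Equiv.Perm (Fin 6) => σ 0 = 0).card = 120 := by
  decide +kernel

theorem det_last {d d' : Fin 6 → F} (h : ∏ j, d j = ∏ j, d' j) (hd' : ∀ j, d' j ≠ 0)
    (he : ∀ j, j ≠ 5 → d j = d' j) : d = d' := by
  funext j
  by_cases hj : j = 5
  · subst hj
    rw [Fin.prod_univ_six, Fin.prod_univ_six, he 0 (by decide), he 1 (by decide), he 2 (by decide),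
      he 3 (by decide), he 4 (by decide)] at h
    exact mul_left_cancel₀ (mul_ne_zero (mul_ne_zero (mul_ne_zero (mul_ne_zero (hd' 0) (hd' 1)) (hd' 2))
      (hd' 3)) (hd' 4)) h
  · exact he j hj

theorem card_M_le {c : ℕ} (hc : c ∈ [1, 2, 3]) : Nat.card (Φ.M c) ≤ 19595520 := by
  haveI := Φ.finite_field
  classical
  let e0 : Fin 6 → F := Pi.single 0 1
  have horb : (orbit (Φ.M c) e0).ncard ≤ 2016 := by
    rw [← Φ.ncard_units]
    refine Set.ncard_le_ncard (fun v hv => ?_) (Set.toFinite _)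
    obtain ⟨g, rfl⟩ := hv
    exact smul_mem_units g.1 (single_mem_units 0)
  have hstab : Nat.card (stabilizer (Φ.M c) e0) ≤ 9720 := by
    have key : ∀ g : stabilizer (Φ.M c) e0, ∃ (σ : Equiv.Perm (Fin 6)) (d : Fin 6 → F) (hd : ∀ j, d j ≠ 0)
        (hp : ∏ j, d j = 1), g.1.1 = Φ.mono σ d hd hp ∧ σ 0 = 0 ∧ d 0 = 1 := fun g =>
      Φ.monomial_of_lines hc hc (mem_stabilizer_iff.1 g.2) fun v hv => Φ.M_apply g.1.2 hv
    choose σ d hd hp hg hσ hd0 using key
    let f : stabilizer (Φ.M c) e0 → {s : Equiv.Perm (Fin 6) // s 0 = 0} × (Fin 4 → {x : F // x ≠ 0}) :=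
      fun g => (⟨σ g, hσ g⟩, fun i => ⟨d g ⟨i.val + 1, by omega⟩, hd g _⟩)
    have hf : Function.Injective f := fun g g' h => by
      have h1 : σ g = σ g' := congrArg Subtype.val (Prod.ext_iff.1 h).1
      have h2 : ∀ i : Fin 4, d g ⟨i.val + 1, by omega⟩ = d g' ⟨i.val + 1, by omega⟩ := fun i =>
        congrArg Subtype.val (congrFun (Prod.ext_iff.1 h).2 i)
      have h3 : d g = d g' := det_last ((hp g).trans (hp g').symm) (hd g') fun j hj => by
        fin_cases j
        · exact (hd0 g).trans (hd0 g').symm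
        · exact h2 0
        · exact h2 1
        · exact h2 2
        · exact h2 3
        · exact absurd rfl hj
      refine Subtype.ext (Subtype.ext (act_ext fun j => ?_))
      rw [hg g, hg g', Φ.mono_single, Φ.mono_single, h1, h3]
    refine (Nat.card_le_card_of_injective f hf).trans (le_of_eq ?_)
    rw [Nat.card_prod, Nat.card_fun, Φ.card_ne_zero_elems, Nat.card_eq_fintype_card, Nat.card_fin,
      Fintype.card_subtype, perm_fix_zero]
    norm_num
  rw [← Subgroup.index_mul_card (stabilizer (Φ.M c) e0), index_stabilizer]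
  exact Nat.mul_le_mul horb hstab

end GF4

end Cfsg.Agent.U62Sub
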