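import Cfsg.Agent.Lib.U62Sub.Model
import Mathlib.GroupTheory.SpecificGroups.Alternating

/-!
# The three models

Scaling the last coordinate is an automorphism carrying the model to one for each parameter; each
contains every monomial element with even permutation.
-/

set_option autoImplicit false

namespace Cfsg.Agent.U62Sub

open Cfsg Matrix

variable {F : Type*} [Field F]

/-- One, with `a` in the last place. -/
def dg (a : F) (i : Fin 6) : F := if i = 5 then a else 1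

/-- The vector with scaled last coordinate. -/
def scaleLast (a : F) (v : Fin 6 → F) : Fin 6 → F := fun i => dg a i * v i

theorem dg_inv {a : F} (ha : a ≠ 0) (i : Fin 6) : dg a i * dg a⁻¹ i = 1 := by
  unfold dg
  split_ifs <;> simp [ha]

theorem dg_ne {a : F} (ha : a ≠ 0) (i : Fin 6) : dg a i ≠ 0 := by
  unfold dg
  split_ifs <;> simp [ha]

theorem prod_dg (a : F) : ∏ i, dg a i = a := by simp [dg]

theorem scaleLast_cancel {a : F} (ha : a ≠ 0) (v : Fin 6 → F) : scaleLast a (scaleLast a⁻¹ v) = v :=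
  funext fun i => by rw [scaleLast, scaleLast, ← mul_assoc, dg_inv ha, one_mul]

theorem supp_scaleLast {a : F} (ha : a ≠ 0) (v : Fin 6 → F) : supp (scaleLast a v) = supp v :=
  Finset.ext fun i => by simp [mem_supp, scaleLast, dg_ne ha]

theorem prod_scaleLast (a : F) (v : Fin 6 → F) : ∏ i, scaleLast a v i = a * ∏ i, v i := by
  show ∏ i, dg a i * v i = _
  rw [Finset.prod_mul_distrib, prod_dg]

namespace GF4

variable (Φ : GF4 F)

include Φ in
theorem herm_scaleLast {a : F} (ha : a ≠ 0) (u v : Fin 6 → F) :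
    hermForm 6 F 2 (scaleLast a u) (scaleLast a v) = hermForm 6 F 2 u v := by
  refine Finset.sum_congr rfl fun i _ => ?_
  show dg a i * u i * (dg a i * v i) ^ 2 = _
  linear_combination (u i * v i ^ 2) * Φ.cube (dg_ne ha i)

/-- The conjugate of a matrix by the scaling. -/
def tauMat (a : F) (A : Matrix (Fin 6) (Fin 6) F) : Matrix (Fin 6) (Fin 6) F :=
  Matrix.diagonal (dg a) * A * Matrix.diagonal (dg a⁻¹)

theorem tauMat_mulVec (a : F) (A : Matrix (Fin 6) (Fin 6) F) (v : Fin 6 → F) :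
    tauMat a A *ᵥ v = scaleLast a (A *ᵥ scaleLast a⁻¹ v) := by
  rw [tauMat, ← Matrix.mulVec_mulVec, ← Matrix.mulVec_mulVec]
  funext i
  rw [Matrix.mulVec_diagonal]
  show dg a i * (A *ᵥ (Matrix.diagonal (dg a⁻¹) *ᵥ v)) i = _
  rw [show Matrix.diagonal (dg a⁻¹) *ᵥ v = scaleLast a⁻¹ v from funext fun j => Matrix.mulVec_diagonal _ _ _]
  rfl

/-- The scaling as a map of the group. -/
def tauFun {a : F} (ha : a ≠ 0) (g : ↥(Cfsg.SU 6 F 2)) : ↥(Cfsg.SU 6 F 2) :=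
  ⟨⟨tauMat a g.1.1, by
      rw [tauMat, Matrix.det_mul, Matrix.det_mul, Matrix.det_diagonal, Matrix.det_diagonal, g.1.2, prod_dg,
        prod_dg, mul_one, mul_inv_cancel₀ ha]⟩, fun u v => by
    show hermForm 6 F 2 (tauMat a g.1.1 *ᵥ u) (tauMat a g.1.1 *ᵥ v) = _
    rw [tauMat_mulVec, tauMat_mulVec, Φ.herm_scaleLast ha]
    exact (g.2 _ _).trans (Φ.herm_scaleLast (inv_ne_zero ha) u v)⟩

theorem tauFun_smul {a : F} (ha : a ≠ 0) (g : ↥(Cfsg.SU 6 F 2)) (v : Fin 6 → F) :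
    Φ.tauFun ha g • v = scaleLast a (g • scaleLast a⁻¹ v) := tauMat_mulVec a g.1.1 v

/-- The automorphism by scaling the last coordinate. -/
def tau {a : F} (ha : a ≠ 0) : ↥(Cfsg.SU 6 F 2) ≃* ↥(Cfsg.SU 6 F 2) where
  toFun := Φ.tauFun ha
  invFun := Φ.tauFun (inv_ne_zero ha)
  left_inv g := act_ext fun j => by
    have h := scaleLast_cancel (inv_ne_zero ha)
    rw [inv_inv] at h
    rw [Φ.tauFun_smul, Φ.tauFun_smul, inv_inv, h, h]
  right_inv g := act_ext fun j => by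
    rw [Φ.tauFun_smul, Φ.tauFun_smul, inv_inv, scaleLast_cancel ha, scaleLast_cancel ha]
  map_mul' g h := act_ext fun j => by
    have e := scaleLast_cancel (inv_ne_zero ha)
    rw [inv_inv] at e
    rw [mul_smul (Φ.tauFun ha g), Φ.tauFun_smul, Φ.tauFun_smul, Φ.tauFun_smul, e, mul_smul]

theorem map_isCover {H : Subgroup ↥(Cfsg.SU 6 F 2)} (h : IsCover H)
    (τ : ↥(Cfsg.SU 6 F 2) ≃* ↥(Cfsg.SU 6 F 2)) : IsCover (H.map τ.toMonoidHom) := by
  have e : H ≃* H.map τ.toMonoidHom := Subgroup.equivMapOfInjective H τ.toMonoidHom τ.injective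
  refine ⟨fun z hz => ⟨τ.symm z, h.center_le ?_, τ.apply_symm_apply z⟩, ?_, ?_⟩
  · refine Subgroup.mem_center_iff.2 fun w => τ.injective ?_
    rw [map_mul, map_mul, τ.apply_symm_apply, Subgroup.mem_center_iff.1 hz]
  · rw [← h.card_center, Nat.card_congr (Subgroup.centerCongr e).toEquiv]
  · obtain ⟨f⟩ := h.iso
    refine ⟨(QuotientGroup.congr (Subgroup.center H) (Subgroup.center _) e ?_).symm.trans f⟩
    ext z
    rw [Subgroup.mem_map]
    constructor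
    · rintro ⟨y, hy, rfl⟩
      exact (Subgroup.centerCongr e ⟨y, hy⟩).2
    · intro hz
      exact ⟨e.symm z, (Subgroup.centerCongr e.symm ⟨z, hz⟩).2, e.apply_symm_apply z⟩

/-- The model with parameter `c`. -/
noncomputable def Kc (c : ℕ) : Subgroup ↥(Cfsg.SU 6 F 2) := by
  classical
  exact if h : Φ.val c ≠ 0 then Φ.K1.map (Φ.tau h).toMonoidHom else Φ.K1

theorem val_ne {c : ℕ} (hc : c ∈ [1, 2, 3]) : Φ.val c ≠ 0 := by
  fin_cases hc
  · rw [val_one]; exact one_ne_zero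
  · exact Φ.w_ne_zero
  · exact pow_ne_zero 2 Φ.w_ne_zero

theorem Kc_eq {c : ℕ} (hc : c ∈ [1, 2, 3]) : Φ.Kc c = Φ.K1.map (Φ.tau (Φ.val_ne hc)).toMonoidHom := by
  simp only [Kc, dif_pos (Φ.val_ne hc)]

theorem isCover_Kc {c : ℕ} (hc : c ∈ [1, 2, 3]) : IsCover (Φ.Kc c) := by
  rw [Φ.Kc_eq hc]
  exact map_isCover Φ.isCover_K1 _

theorem Kc_le {c : ℕ} (hc : c ∈ [1, 2, 3]) : Φ.Kc c ≤ Φ.M c := by
  rw [Φ.Kc_eq hc]
  rintro _ ⟨g, hg, rfl⟩
  refine Φ.mem_M fun v hv => ?_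
  have h0 := Φ.val_ne hc
  show Φ.tauFun h0 g • v ∈ _
  rw [Φ.tauFun_smul]
  have h1 : scaleLast (Φ.val c)⁻¹ v ∈ Φ.S 1 := by
    rw [Φ.mem_S_iff (by simp)]
    rw [Φ.mem_S_iff hc] at hv
    rw [supp_scaleLast (inv_ne_zero h0), prod_scaleLast]
    exact hv.imp id fun ⟨a, b⟩ => ⟨a, by rw [b, inv_mul_cancel₀ h0, val_one]⟩
  have h2 := Φ.M_apply (Φ.K1_le hg) h1
  rw [Φ.mem_S_iff (by simp)] at h2
  rw [Φ.mem_S_iff hc, supp_scaleLast h0, prod_scaleLast]
  exact h2.imp id fun ⟨a, b⟩ => ⟨a, by rw [b, val_one, mul_one]⟩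

theorem trans_Kc {c : ℕ} (hc : c ∈ [1, 2, 3]) : TransUnits (Φ.Kc c) := fun v hv => by
  have h0 := Φ.val_ne hc
  obtain ⟨g, hg, e⟩ := Φ.trans_K1 (scaleLast (Φ.val c)⁻¹ v) (by
    show hermForm 6 F 2 _ _ = 1
    rw [Φ.herm_scaleLast (inv_ne_zero h0)]
    exact hv)
  refine ⟨Φ.tau h0 g, by rw [Φ.Kc_eq hc]; exact ⟨g, hg, rfl⟩, ?_⟩
  show Φ.tauFun h0 g • _ = _
  have e0 : scaleLast (Φ.val c)⁻¹ (Pi.single 0 1 : Fin 6 → F) = Pi.single 0 1 := funext fun i => by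
    by_cases hi : i = 0
    · subst hi; simp [scaleLast, dg]
    · simp [scaleLast, hi]
  rw [Φ.tauFun_smul, e0, e, scaleLast_cancel h0]

theorem mem_Kc_of_cube {c : ℕ} (hc : c ∈ [1, 2, 3]) {g : ↥(Cfsg.SU 6 F 2)} (hg : g ∈ Φ.M c) (h3 : g ^ 3 = 1) :
    g ∈ Φ.Kc c := by
  haveI := Φ.finite_field
  let H := (Φ.Kc c).subgroupOf (Φ.M c)
  have hcard : Nat.card H = 9797760 := by
    rw [Nat.card_congr (Subgroup.subgroupOfEquivOfLe (Φ.Kc_le hc)).toEquiv, (Φ.isCover_Kc hc).card]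
  have hle : H.index ≤ 2 := by
    have := H.index_mul_card
    have := Φ.card_M_le hc
    rw [hcard] at *
    omega
  let x : Φ.M c := ⟨g, hg⟩
  have hx : x = (x ^ 2) ^ 2 := Subtype.ext (by
    show g = (g ^ 2) ^ 2
    rw [← pow_mul, show 2 * 2 = 3 + 1 from rfl, pow_succ, h3, one_mul])
  have : x ∈ H := by
    have := H.index_ne_zero_of_finite
    interval_cases h : H.index
    · exact absurd rfl this
    · exact (Subgroup.index_eq_one.1 h) ▸ Subgroup.mem_top x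
    · rw [hx]; exact Subgroup.sq_mem_of_index_two h _
  exact this

include Φ in
theorem mono_mul (σ τ : Equiv.Perm (Fin 6)) (d e f : Fin 6 → F) (hd : ∀ j, d j ≠ 0) (hp : ∏ j, d j = 1)
    (he : ∀ j, e j ≠ 0) (hq : ∏ j, e j = 1) (hf : ∀ j, f j ≠ 0) (hr : ∏ j, f j = 1)
    (h : ∀ j, f j = d (τ j) * e j) :
    Φ.mono σ d hd hp * Φ.mono τ e he hq = Φ.mono (σ * τ) f hf hr := act_ext fun j => by
  rw [mul_smul, Φ.mono_single, act_smul, Φ.mono_single, Φ.mono_single, smul_smul, h, mul_comm (e j)]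
  rfl

/-- The permutation elements. -/
def permEl : Equiv.Perm (Fin 6) →* ↥(Cfsg.SU 6 F 2) :=
  MonoidHom.mk' (fun σ => Φ.mono σ (fun _ => 1) (fun _ => one_ne_zero) (by simp))
    fun σ τ => (Φ.mono_mul σ τ _ _ _ _ _ _ _ _ _ fun _ => (one_mul 1).symm).symm

theorem Diag_le_Kc {c : ℕ} (hc : c ∈ [1, 2, 3]) : Diag ≤ Φ.Kc c := fun g hg => by
  obtain ⟨d, hd, hp, rfl⟩ := Φ.exists_diag hg
  refine Φ.mem_Kc_of_cube hc (Φ.mono_mem_M hc _ d hd hp) (act_ext fun j => ?_)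
  rw [show Φ.mono 1 d hd hp ^ 3 = Φ.mono 1 d hd hp * Φ.mono 1 d hd hp * Φ.mono 1 d hd hp by
      rw [pow_succ, pow_succ, pow_one], mul_smul, mul_smul, Φ.mono_single, act_smul, Equiv.Perm.one_apply,
    Φ.mono_single, act_smul, act_smul, Equiv.Perm.one_apply, Φ.mono_single, Equiv.Perm.one_apply, one_smul,
    smul_smul, smul_smul]
  rw [show d j * d j * d j = 1 by linear_combination Φ.cube (hd j), one_smul]

theorem permEl_mem_Kc {c : ℕ} (hc : c ∈ [1, 2, 3]) {σ : Equiv.Perm (Fin 6)} (hσ : σ ∈ alternatingGroup (Fin 6)) :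
    Φ.permEl σ ∈ Φ.Kc c := by
  suffices alternatingGroup (Fin 6) ≤ (Φ.Kc c).comap Φ.permEl from this hσ
  rw [← Equiv.Perm.closure_three_cycles_eq_alternating, Subgroup.closure_le]
  intro τ hτ
  have h3 : τ ^ 3 = 1 := by
    have := hτ.orderOf
    rw [← this]; exact pow_orderOf_eq_one τ
  exact Φ.mem_Kc_of_cube hc (Φ.mono_mem_M hc τ (fun _ => 1) (fun _ => one_ne_zero) (by simp) : Φ.permEl τ ∈ Φ.M c) (by rw [← map_pow, h3, map_one])

theorem mono_mem_Kc {c : ℕ} (hc : c ∈ [1, 2, 3]) {σ : Equiv.Perm (Fin 6)} (hσ : σ ∈ alternatingGroup (Fin 6))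
    (d : Fin 6 → F) (hd : ∀ j, d j ≠ 0) (hp : ∏ j, d j = 1) : Φ.mono σ d hd hp ∈ Φ.Kc c := by
  have e : Φ.mono σ d hd hp = Φ.permEl σ * Φ.mono 1 d hd hp :=
    (Φ.mono_mul σ 1 (fun _ => 1) d d (fun _ => one_ne_zero) (by simp) hd hp hd hp fun j => (one_mul _).symm).symm
  rw [e]
  exact mul_mem (Φ.permEl_mem_Kc hc hσ) (Φ.Diag_le_Kc hc (Φ.mono_one_mem d hd hp))

end GF4

end Cfsg.Agent.U62Sub
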